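import Cfsg.Agent.Lib.E8.Rank
import Cfsg.Agent.Lib.Lin.SL2

/-!
# Orders of the `p'`-subgroups of `PSL(2, q)` (Dickson)
-/

set_option autoImplicit false
set_option linter.unusedSectionVars false

namespace Cfsg.Agent.E8

open Subgroup Cfsg.Agent.Coprime Cfsg.Agent.OO
open scoped Pointwise MatrixGroups

/-- numerical data of a class of maximal tori -/
def Cl (n e : ℕ) : Prop := ∃ k u : ℕ, (n = 2 * u ∨ n = 4 * u) ∧ e + 2 * k = 2 * u ∧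
  (u = 2 * k ∨ u = 3 * k ∨ u = 4 * k ∨ u = 5 * k ∨ 6 * k ≤ u) ∧ 2 ≤ k

theorem Cl.le {n e : ℕ} (h : Cl n e) : n ≤ 4 * e := by
  obtain ⟨k, u, h⟩ := h; omega

theorem Cl.one {n e : ℕ} (h : Cl n e) : e + 2 ≠ n := by
  obtain ⟨k, u, h⟩ := h; omega

theorem Cl.two {n a b : ℕ} (ha : Cl n a) (hb : Cl n b) (h : a + b + 2 = n) : n = 24 := by
  obtain ⟨k, u, ha⟩ := ha
  obtain ⟨k', u', hb⟩ := hb
  omega

theorem three_aux {u a b c : ℕ} (ha : u = 2 * a ∨ u = 3 * a ∨ u = 4 * a ∨ u = 5 * a ∨ 6 * a ≤ u)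
    (hb : u = 2 * b ∨ u = 3 * b ∨ u = 4 * b ∨ u = 5 * b ∨ 6 * b ≤ u)
    (hc : u = 2 * c ∨ u = 3 * c ∨ u = 4 * c ∨ u = 5 * c ∨ 6 * c ≤ u) (h1 : 2 ≤ a) (h2 : 2 ≤ b)
    (h3 : 2 ≤ c) (h : a + b + c = u + 1) : u = 6 ∨ u = 12 ∨ u = 30 := by
  rcases ha with e | e | e | e | e <;> rcases hb with e' | e' | e' | e' | e' <;> omega

theorem Cl.three {n a b c : ℕ} (ha : Cl n a) (hb : Cl n b) (hc : Cl n c) (h : a + b + c + 2 = n) :
    n = 24 ∨ n = 48 ∨ n = 120 := by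
  have h1 := ha.le
  have h2 := hb.le
  have h3 := hc.le
  obtain ⟨k, u, rfl | a1, a2, a3, a4⟩ := ha
  · omega
  obtain ⟨k', u', rfl | b1, b2, b3, b4⟩ := hb
  · omega
  obtain ⟨k'', u'', rfl | c1, c2, c3, c4⟩ := hc
  · omega
  obtain rfl : u = u' := by omega
  obtain rfl : u = u'' := by omega
  have := three_aux a3 b3 c3 a4 b4 c4 (by clear a3 b3 c3; omega)
  clear a3 b3 c3
  omega

variable {F : Type*} [Field F] [Fintype F]

theorem card_center_SL2' (h2 : (2 : F) ≠ 0) : ♯(center SL(2, F)) = 2 :=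
  le_antisymm Lin.SL2.card_center_le ((one_lt_card_iff_ne_bot _).2 fun e => h2 (by
    have := congrArg (fun x : SL(2, F) => x.1 0 0)
      (mem_bot.1 (e ▸ (mem_center_iff.2 fun g => by simp : (-1 : SL(2, F)) ∈ center _)))
    simp at this
    linear_combination -this))

theorem dickson_SL (h2 : (2 : F) ≠ 0) (p : ℕ) [CharP F p] {H : Subgroup SL(2, F)}
    (hZ : center _ ≤ H) {m : ℕ} (hm : ♯H = 2 * m) (hp : (♯H).Coprime p) :
    m ∣ Fintype.card F - 1 ∨ m ∣ Fintype.card F + 1 ∨ m = 12 ∨ m = 24 ∨ m = 60 := by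
  by_contra hc
  have cZ := card_center_SL2' h2
  let E := fun x : SL(2, F) => classSupp ((H ⊓ 𝐂[x] : Subgroup _) \ center SL(2, F)) H
  let T := (H : Set SL(2, F)) \ center SL(2, F)
  have hZ' : ∀ {g x : SL(2, F)}, g * x * g⁻¹ ∈ center _ → x ∈ center _ := fun {g x} h => by
    simpa [mul_assoc] using normal_of_characteristic (center _) |>.conj_mem _ h g⁻¹
  have hT : T.ncard + 2 = 2 * m := by
    rw [← hm]; exact (congrArg _ cZ.symm).trans (Set.ncard_sdiff_add_ncard_of_subset hZ)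
  have h1 : ∀ x, E x ⊆ T := by
    rintro x _ ⟨a, ha, g, hg, rfl⟩
    exact ⟨mul_mem (mul_mem hg ha.1.1) (inv_mem hg), fun e => ha.2 (hZ' e)⟩
  have h3 : ∀ x ∈ T, x ∈ E x := fun x hx => subset_classSupp _ _ ⟨⟨hx.1, mem_cent1.2 rfl⟩, hx.2⟩
  have h4 : ∀ x, ∀ y ∈ T, y ∉ E x → Disjoint (E x) (E y) := fun x y hy hy' => by
    rw [Set.disjoint_left]
    rintro _ ⟨a, ha, g, hg, rfl⟩ ⟨b, hb, h, hh, e⟩
    refine hy' ⟨g⁻¹ * h * y * (g⁻¹ * h)⁻¹, ⟨⟨H.mul_mem (H.mul_mem (H.mul_mem (H.inv_mem hg) hh) hy.1)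
      (H.inv_mem (H.mul_mem (H.inv_mem hg) hh)), mem_cent1.2 (Lin.SL2.commute_of_commute ha.2 ?_
      (mem_cent1.1 ha.1.2).symm)⟩, fun e => hy.2 (hZ' e)⟩, h⁻¹ * g, mul_mem (inv_mem hh) hg, by group⟩
    have : a = g⁻¹ * h * b * (g⁻¹ * h)⁻¹ := by
      calc a = g⁻¹ * (g * a * g⁻¹) * g := by group
        _ = _ := by rw [e]; group
    rw [this]
    exact (show Commute y b from (mem_cent1.1 hb.1.2).symm).map (MulAut.conj (g⁻¹ * h))
  have h5 : ∀ x ∈ T, Cl (2 * m) (E x).ncard := fun x hx => by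
    have ht := Lin.SL2.trace_sq_ne_four h2 p hx.2 (hp.coprime_dvd_left (orderOf_dvd_card hx.1))
    have hZA : center _ ≤ H ⊓ 𝐂[x] := le_inf hZ (center_le_centralizer _)
    have ti : NormedTI ((H ⊓ 𝐂[x] : Subgroup _) \ center SL(2, F)) H (H ⊓ 𝐍(H ⊓ 𝐂[x])) :=
      ⟨⟨x, ⟨hx.1, mem_cent1.2 rfl⟩, hx.2⟩, inf_le_left, fun g hg a ha =>
        ⟨conj_mem_of_norm hg.2 ha.1, fun e => ha.2 (hZ' e)⟩, fun g hg a ha ha' => ⟨hg, by
          refine mem_norm_inf (le_norm_self H hg) (mem_norm_of_conj_le (le_of_eq ?_))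
          rw [Lin.SL2.centralizer_eq hx.2 ha.2 (mem_cent1.1 ha.1.2).symm, ← cent1_conj,
            ← Lin.SL2.centralizer_eq hx.2 ha'.2 (mem_cent1.1 ha'.1.2).symm,
            Lin.SL2.centralizer_eq hx.2 ha.2 (mem_cent1.1 ha.1.2).symm]⟩⟩
    have e1 : (E x).ncard = _ := ti.ncard_classSupp
    have e2 := Set.ncard_sdiff_add_ncard_of_subset (SetLike.coe_subset_coe.2 hZA)
    have e3 : 𝐂[x].relIndex (H ⊓ 𝐍(H ⊓ 𝐂[x])) ≤ 2 := by
      rw [← ncard_cls]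
      refine (Set.ncard_le_ncard (t := {x, x⁻¹}) ?_).trans (Set.ncard_insert_le _ _ |>.trans_eq (by simp))
      rintro _ ⟨g, hg, rfl⟩
      exact Lin.SL2.eq_or_eq_inv h2 ht (mem_cent1.1 (conj_mem_of_norm hg.2
        (⟨hx.1, mem_cent1.2 rfl⟩ : x ∈ H ⊓ 𝐂[x])).2) (isConj_iff.2 ⟨g, rfl⟩)
    have e4 := card_inf_mul_relIndex 𝐂[x] (H ⊓ 𝐍(H ⊓ 𝐂[x]))
    rw [← inf_assoc, inf_comm 𝐂[x], inf_eq_left.2 (le_norm_self _)] at e4
    have e5 := card_mul_relIndex (inf_le_left : H ⊓ 𝐍(H ⊓ 𝐂[x]) ≤ H)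
    have e6 := relIndex_pos 𝐂[x] (H ⊓ 𝐍(H ⊓ 𝐂[x]))
    have e7 := relIndex_pos (H ⊓ 𝐍(H ⊓ 𝐂[x])) H
    have e8 := card_lt_of_lt (lt_of_le_not_ge hZA fun e => hx.2 (e ⟨hx.1, mem_cent1.2 rfl⟩))
    obtain ⟨a, ha⟩ := cZ ▸ card_dvd hZA
    have e9 : 2 * a ∣ ♯𝐂[x] := ha ▸ card_dvd inf_le_right
    change _ + ♯(center _) = ♯(H ⊓ 𝐂[x] : Subgroup _) at e2
    rw [← e4, hm, ha] at e5
    rw [ha, cZ] at e2 e8
    generalize (H ⊓ 𝐍(H ⊓ 𝐂[x])).relIndex H = k at e1 e5 e7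
    generalize 𝐂[x].relIndex (H ⊓ 𝐍(H ⊓ 𝐂[x])) = ε at e3 e5 e6
    refine ⟨k, a * k, by interval_cases ε <;> [left; right] <;> linarith, ?_, ?_, ?_⟩
    · rw [e1, ← add_mul, e2, mul_assoc]
    · have : a = 2 ∨ a = 3 ∨ a = 4 ∨ a = 5 ∨ 6 ≤ a := by omega
      rcases this with rfl | rfl | rfl | rfl | e
      all_goals first | omega | exact .inr (.inr (.inr (.inr (Nat.mul_le_mul_right _ e))))
    · by_contra k1
      obtain rfl : k = 1 := by omega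
      have : m ∣ ♯𝐂[x] := Dvd.dvd.trans (by
        interval_cases ε
        exacts [⟨2, by omega⟩, ⟨1, by omega⟩]) e9
      rcases Lin.SL2.card_centralizer h2 ht with e | e <;> rw [e] at this <;> tauto
  have nx : ∀ U ⊆ T, U.ncard + 2 ≠ 2 * m → ∃ x ∈ T, x ∉ U := fun U hU e =>
    Set.not_subset.1 fun e' => e (hU.antisymm e' ▸ hT)
  obtain ⟨x, hx, -⟩ := nx ∅ (Set.empty_subset _) (by
    rw [Set.ncard_empty]; rintro e; exact hc (.inl (by rw [show m = 1 by omega]; exact one_dvd _)))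
  obtain ⟨y, hy, hy'⟩ := nx _ (h1 x) (h5 x hx).one
  have c1 := Set.ncard_union_eq (h4 x y hy hy')
  obtain ⟨z, hz, hz'⟩ := nx _ (Set.union_subset (h1 x) (h1 y)) fun e => by
    have := (h5 x hx).two (h5 y hy) (c1 ▸ e); omega
  rw [Set.mem_union, not_or] at hz'
  have c2 := Set.ncard_union_eq (Set.disjoint_union_left.2 ⟨h4 x z hz hz'.1, h4 y z hz hz'.2⟩)
  have s3 := Set.union_subset (Set.union_subset (h1 x) (h1 y)) (h1 z)
  obtain ⟨w, hw, hw'⟩ := nx _ s3 fun e => by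
    have := (h5 x hx).three (h5 y hy) (h5 z hz) (c1 ▸ c2 ▸ e); omega
  rw [Set.mem_union, Set.mem_union, not_or, not_or] at hw'
  have c3 := Set.ncard_union_eq (Set.disjoint_union_left.2 ⟨Set.disjoint_union_left.2
    ⟨h4 x w hw hw'.1.1, h4 y w hw hw'.1.2⟩, h4 z w hw hw'.2⟩)
  have := Set.ncard_le_ncard (Set.union_subset s3 (h1 w))
  have := (h5 x hx).le
  have := (h5 y hy).le
  have := (h5 z hz).le
  have := (h5 w hw).le
  omega

theorem dickson (h2 : (2 : F) ≠ 0) (p : ℕ) [Fact p.Prime] [CharP F p] {H : Subgroup PSL(2, F)}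
    (hp : ¬ p ∣ ♯H) : ♯H ∣ Fintype.card F - 1 ∨ ♯H ∣ Fintype.card F + 1 ∨ ♯H = 12 ∨ ♯H = 24 ∨
      ♯H = 60 := by
  have h1 : center _ ≤ H.comap (QuotientGroup.mk' _) :=
    (QuotientGroup.ker_mk' _).ge.trans (ker_le_comap _ _)
  have h3 := card_mul_relIndex h1
  have h4 := relIndex_ker (H.comap (QuotientGroup.mk' _)) (QuotientGroup.mk' (center SL(2, F)))
  rw [QuotientGroup.ker_mk', map_comap_eq_self_of_surjective (QuotientGroup.mk'_surjective _)] at h4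
  rw [card_center_SL2' h2, h4] at h3
  refine dickson_SL h2 p h1 h3.symm (h3 ▸ .symm ((Fact.out : p.Prime).coprime_iff_not_dvd.2 fun e => ?_))
  exact h2 ((CharP.cast_eq_zero_iff F p 2).2 (((Fact.out : p.Prime).dvd_mul.1 e).resolve_right hp))

end Cfsg.Agent.E8
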