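import Cfsg.Agent.Lib.E8.Dickson
import Cfsg.Agent.Lib.OO.BG1
import Mathlib.NumberTheory.LegendreSymbol.QuadraticChar.GaussSum

/-!
# The icosahedral subgroup of `PSL(2, q)`
-/

set_option autoImplicit false
set_option linter.unusedSectionVars false

namespace Cfsg.Agent.E8

open Subgroup Cfsg.Agent.Coprime Cfsg.Agent.OO
open scoped Pointwise MatrixGroups

/-- coordinates of icosians with respect to `1, x, y, x y` over `ℤ[τ]` -/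
structure Ico where
  (a a' b b' c c' d d' : ℤ)
  deriving DecidableEq

namespace Ico

/-- left multiplication by `x` -/
def lx (u : Ico) : Ico := ⟨-u.b, -u.b', u.a, u.a', -u.d, -u.d', u.c, u.c'⟩

/-- left multiplication by `y` -/
def ly (u : Ico) : Ico := ⟨u.b' - u.c, u.b + u.b' - u.c', u.b + u.d, u.b' + u.d',
  u.a + u.c + u.d', u.a' + u.c' + u.d + u.d', -u.b, -u.b'⟩

/-- the 120 units -/
def all : List Ico :=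
  [⟨1, 0, 0, 0, 0, 0, 0, 0⟩, ⟨0, 0, 1, 0, 0, 0, 0, 0⟩, ⟨0, 0, 0, 0, 1, 0, 0, 0⟩,
   ⟨-1, 0, 0, 0, 0, 0, 0, 0⟩, ⟨0, 1, 1, 0, 0, 0, -1, 0⟩, ⟨0, 0, 0, 0, 0, 0, 1, 0⟩,
   ⟨-1, 0, 0, 0, 1, 0, 0, 0⟩, ⟨0, 0, -1, 0, 0, 0, 0, 0⟩, ⟨0, 0, 0, 0, -1, 0, 0, 0⟩,
   ⟨-1, 0, 0, 1, 1, 0, 0, 0⟩, ⟨0, 1, 0, 0, 0, 0, -1, 0⟩, ⟨0, 0, 1, 0, 0, 1, 0, 0⟩,
   ⟨0, 0, -1, 0, 0, 0, 1, 0⟩, ⟨0, -1, -1, 0, 0, 0, 1, 0⟩, ⟨0, 0, 0, 0, 0, 0, -1, 0⟩,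
   ⟨1, 0, 0, 0, -1, 0, 0, 0⟩, ⟨0, 1, 0, 1, 0, 0, 0, -1⟩, ⟨0, 0, 0, 1, 1, 0, 0, 0⟩,
   ⟨-1, 0, 0, 0, 0, 0, 0, 1⟩, ⟨0, 0, 1, 0, 0, 1, -1, 0⟩, ⟨0, -1, 0, 0, 0, 1, 1, 0⟩,
   ⟨1, 0, 0, -1, -1, 0, 0, 0⟩, ⟨0, -1, 0, 0, 0, 0, 1, 0⟩, ⟨0, 0, -1, 0, 0, -1, 0, 0⟩,
   ⟨0, 0, 1, 0, 0, 0, -1, 0⟩, ⟨0, -1, 0, 1, 0, 1, 0, 0⟩, ⟨1, 1, 0, 0, -1, 0, 0, -1⟩,
   ⟨0, 1, 0, 1, 1, 0, 0, -1⟩, ⟨0, 0, 0, 1, 0, 1, 0, 0⟩, ⟨-1, 0, 0, 0, 1, 0, 0, 1⟩,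
   ⟨0, 0, 0, -1, -1, 0, 0, 1⟩, ⟨0, -1, 1, 0, 0, 1, 0, 0⟩, ⟨0, -1, 0, -1, 0, 0, 0, 1⟩,
   ⟨0, 0, 0, -1, -1, 0, 0, 0⟩, ⟨1, 0, 0, 0, 0, 0, 0, -1⟩, ⟨0, 0, -1, 0, 0, -1, 1, 0⟩,
   ⟨0, 1, 0, 0, 0, -1, -1, 0⟩, ⟨1, 0, 0, 1, 0, 0, 0, -1⟩, ⟨0, 0, 1, 1, 0, 1, -1, 0⟩,
   ⟨0, -1, 0, 1, 0, 1, 1, 0⟩, ⟨0, 1, 0, 0, 0, 0, 0, -1⟩, ⟨0, -1, 0, 0, 0, 0, 0, 1⟩,
   ⟨1, 0, 0, 1, 0, 1, 0, -1⟩, ⟨-1, 0, 0, 1, 1, 1, 0, 0⟩, ⟨0, -1, 0, 0, 0, 1, 0, 1⟩,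
   ⟨-1, 0, 0, -1, 0, 0, 0, 1⟩, ⟨0, 1, 0, -1, 0, -1, 0, 0⟩, ⟨-1, -1, 0, 0, 1, 0, 0, 1⟩,
   ⟨0, -1, 0, -1, -1, 0, 0, 1⟩, ⟨0, 0, 0, -1, 0, -1, 0, 0⟩, ⟨1, 0, 0, 0, -1, 0, 0, -1⟩,
   ⟨0, 0, 0, 1, 1, 0, 0, -1⟩, ⟨0, 1, -1, 0, 0, -1, 0, 0⟩, ⟨1, 1, 0, 0, 0, -1, 0, -1⟩,
   ⟨1, 1, 0, 1, 0, 0, -1, -1⟩, ⟨1, 0, 1, 1, 0, 1, 0, -1⟩, ⟨0, -1, 1, 0, 0, 1, 0, 1⟩,
   ⟨0, -1, -1, 0, 0, 0, 1, 1⟩, ⟨0, 0, 0, 1, 0, 1, 0, -1⟩, ⟨0, 0, 0, -1, 0, -1, 0, 1⟩,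
   ⟨0, -1, 0, 1, 1, 1, 0, 0⟩, ⟨-1, -1, 0, 0, 0, 1, 0, 1⟩, ⟨0, 0, -1, -1, 0, -1, 1, 0⟩,
   ⟨0, 1, 0, -1, 0, -1, -1, 0⟩, ⟨-1, 0, 0, -1, 0, -1, 0, 1⟩, ⟨1, 0, 0, -1, -1, -1, 0, 0⟩,
   ⟨0, 1, 0, 0, 0, -1, 0, -1⟩, ⟨0, 0, 1, 1, 0, 1, 0, -1⟩, ⟨0, -1, 1, 1, 1, 1, 0, 0⟩,
   ⟨1, 1, -1, 0, 0, -1, 0, -1⟩, ⟨-1, -1, 1, 0, 0, 1, 0, 1⟩, ⟨1, 1, 1, 0, 0, 0, -1, -1⟩,
   ⟨0, 0, 1, 1, 1, 1, -1, 0⟩, ⟨0, -1, 0, 1, 1, 1, 1, 0⟩, ⟨0, -1, 0, -1, 0, 0, 1, 1⟩,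
   ⟨0, 0, -1, -1, 0, -1, 0, 1⟩, ⟨-1, -1, 0, -1, 0, 0, 1, 1⟩, ⟨-1, 0, -1, -1, 0, -1, 0, 1⟩,
   ⟨0, 1, -1, 0, 0, -1, 0, -1⟩, ⟨0, 1, 1, 0, 0, 0, -1, -1⟩, ⟨0, 1, 0, -1, -1, -1, 0, 0⟩,
   ⟨1, 1, 1, 0, -1, 0, -1, -1⟩, ⟨0, 1, 1, 1, 1, 0, -1, -1⟩, ⟨-1, 0, 1, 1, 1, 1, 0, 0⟩,
   ⟨-1, -1, 0, 0, 1, 0, 1, 1⟩, ⟨0, 1, 0, 1, 1, 0, -1, -1⟩, ⟨0, -1, 0, -1, -1, 0, 1, 1⟩,
   ⟨0, 0, 1, 1, 1, 1, 0, -1⟩, ⟨-1, -1, 1, 0, 1, 1, 0, 1⟩, ⟨-1, -1, -1, 0, 1, 0, 1, 1⟩,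
   ⟨0, 1, -1, -1, -1, -1, 0, 0⟩, ⟨-1, -1, -1, 0, 0, 0, 1, 1⟩, ⟨0, 0, -1, -1, -1, -1, 1, 0⟩,
   ⟨0, 1, 0, -1, -1, -1, -1, 0⟩, ⟨0, 1, 0, 1, 0, 0, -1, -1⟩, ⟨-1, 0, 1, 1, 1, 1, -1, 0⟩,
   ⟨1, 1, 0, -1, -1, -1, -1, 0⟩, ⟨-1, -1, 0, 1, 1, 1, 1, 0⟩, ⟨0, 2, 0, 0, 0, -1, -1, -1⟩,
   ⟨0, 1, 1, 1, 0, 1, -1, -1⟩, ⟨-1, -1, 0, 0, 0, 1, 1, 1⟩, ⟨-1, 0, -1, -1, 0, -1, 1, 1⟩,
   ⟨1, 0, -1, -1, -1, -1, 1, 0⟩, ⟨0, -1, -1, -1, -1, 0, 1, 1⟩, ⟨1, 0, -1, -1, -1, -1, 0, 0⟩,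
   ⟨1, 1, 0, 0, -1, 0, -1, -1⟩, ⟨0, 0, -1, -1, -1, -1, 0, 1⟩, ⟨1, 1, -1, 0, -1, -1, 0, -1⟩,
   ⟨0, 0, 0, 2, 1, 1, 0, -1⟩, ⟨-1, -1, 0, 1, 1, 1, 0, 1⟩, ⟨0, -1, 1, 1, 0, 2, 0, 0⟩,
   ⟨0, -2, 0, 0, 0, 1, 1, 1⟩, ⟨0, -1, -1, -1, 0, -1, 1, 1⟩, ⟨1, 1, 0, 0, 0, -1, -1, -1⟩,
   ⟨1, 0, 1, 1, 0, 1, -1, -1⟩, ⟨1, 1, 0, 1, 0, 0, 0, -2⟩, ⟨-1, -1, 0, -1, 0, 0, 0, 2⟩,
   ⟨0, 0, 0, -2, -1, -1, 0, 1⟩, ⟨1, 1, 0, -1, -1, -1, 0, -1⟩, ⟨0, 1, -1, -1, 0, -2, 0, 0⟩]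

theorem closed : ∀ u ∈ all, lx u ∈ all ∧ ly u ∈ all := by decide +kernel

variable {F R : Type*} [Field F] [Ring R] [Algebra F R] {τ : F} {x y : R}

/-- evaluation -/
def ev (τ : F) (x y : R) (u : Ico) : R := (u.a + u.a' * τ) • (1 : R) + (u.b + u.b' * τ) • x +
  (u.c + u.c' * τ) • y + (u.d + u.d' * τ) • (x * y)

theorem ev_lx (hx : x * x = -1) (u : Ico) : ev τ x y (lx u) = x * ev τ x y u := by
  simp only [ev, lx, mul_add, mul_smul_comm, ← mul_assoc x, hx, mul_one, neg_one_mul]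
  match_scalars <;> ring

theorem ev_ly (hτ : τ ^ 2 = τ + 1) (hy : y * y = y - 1) (h : y * x = x + τ • 1 - x * y) (u : Ico) :
    ev τ x y (ly u) = y * ev τ x y u := by
  simp only [ev, ly, mul_add, mul_smul_comm, ← mul_assoc y, h, mul_one, add_mul, sub_mul,
    smul_mul_assoc, one_mul, mul_assoc x, hy, mul_sub]
  match_scalars
  · linear_combination (-u.b') * hτ
  · ring
  · linear_combination (-u.d') * hτ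
  · ring

theorem pow_five (hτ : τ ^ 2 = τ + 1) (h : x * x = τ • x - 1) : x ^ 5 = -1 := by
  simp only [pow_succ, pow_zero, one_mul, h, sub_mul, smul_mul_assoc]
  match_scalars
  · linear_combination (τ ^ 2 + τ - 1) * hτ
  · linear_combination (-τ - 1) * hτ

end Ico

variable {F : Type*} [Field F] [Fintype F]

theorem exists_sixty (h0 : ringChar F ≠ 2) {τ : F} (hτ : τ ^ 2 = τ + 1) :
    ∃ H : Subgroup PSL(2, F), ♯H = 60 := by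
  open Polynomial in
  obtain ⟨a, b, hab⟩ := FiniteField.exists_root_sum_quadratic (f := (X ^ 2 - X + 1 : F[X]))
    (g := X ^ 2 + C τ * X) (by compute_degree!) (by compute_degree!)
    (FiniteField.odd_card_of_char_ne_two h0)
  simp only [Polynomial.eval_add, Polynomial.eval_sub, Polynomial.eval_pow, Polynomial.eval_X,
    Polynomial.eval_mul, Polynomial.eval_C, Polynomial.eval_one] at hab
  let x : SL(2, F) := ⟨!![0, 1; -1, 0], by simp⟩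
  let y : SL(2, F) := ⟨!![a, b; b + τ, 1 - a], by
    rw [Matrix.det_fin_two_of]; linear_combination -hab⟩
  have hx : x.1 * x.1 = -1 := by rw [Lin.SL2.mul_self]; simp [x]
  have hy : y.1 * y.1 = y.1 - 1 := by rw [Lin.SL2.mul_self]; simp [y]
  have e0 : (x * y).1 = !![b + τ, 1 - a; -a, -b] := by
    rw [Matrix.SpecialLinearGroup.coe_mul]; simp [x, y]
  have hz : (x * y).1 * (x * y).1 = τ • (x * y).1 - 1 := by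
    rw [Lin.SL2.mul_self, e0]; simp
  have h : y.1 * x.1 = x.1 + τ • 1 - x.1 * y.1 := by
    ext i j; fin_cases i <;> fin_cases j <;> simp [x, y] <;> ring
  have h1 : ♯(closure {x, y}) ≤ 120 := by
    refine (Set.ncard_le_ncard_of_injOn Subtype.val (t := Ico.ev τ x.1 y.1 '' {u | u ∈ Ico.all})
      (fun g hg => ?_) Subtype.val_injective.injOn (Ico.all.finite_toSet.image _)).trans
      ((Set.ncard_image_le Ico.all.finite_toSet).trans ?_)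
    · replace hg : g ∈ Submonoid.closure {x, y} :=
        (closure_toSubmonoid_of_finite (G := SL(2, F))).le hg
      induction hg using Submonoid.closure_induction_left with
      | one => exact ⟨_, List.mem_cons_self, by simp [Ico.ev]; rfl⟩
      | mul_left s hs g _ ih =>
        obtain ⟨u, hu, e⟩ := ih
        rcases hs with rfl | rfl
        · exact ⟨_, (Ico.closed u hu).1, by rw [Ico.ev_lx hx, e]; rfl⟩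
        · exact ⟨_, (Ico.closed u hu).2, by rw [Ico.ev_ly hτ hy h, e]; rfl⟩
    · rw [← List.coe_toFinset, Set.ncard_coe_finset]
      exact List.toFinset_card_le _
  let π : SL(2, F) →* PSL(2, F) := QuotientGroup.mk' _
  have ord : ∀ (g : SL(2, F)) (p : ℕ), p.Prime → g.1 ^ p = -1 → ¬ (g.1 0 1 = 0 ∧ g.1 1 0 = 0) →
      orderOf (π g) = p := fun g p hp e e' => by
    have := Fact.mk hp
    refine orderOf_eq_prime ((QuotientGroup.eq_one_iff (g ^ p)).2 (mem_center_iff.2 fun k =>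
      Subtype.ext (by simp [e]))) fun e => e' ?_
    have := Lin.mem_range_scalar_two_iff.1 (Lin.SL2.mem_center_iff_scalar.1
      ((QuotientGroup.eq_one_iff g).1 e))
    exact ⟨this.1, this.2.1⟩
  have o2 := ord x 2 Nat.prime_two (by rwa [pow_two]) (by simp [x])
  have o3 := ord y 3 Nat.prime_three (by
    rw [pow_succ, pow_two, hy, sub_mul, hy]; simp) (by
    simp only [y, Matrix.of_apply, Matrix.cons_val', Matrix.cons_val_one, Matrix.cons_val_zero,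
      Matrix.cons_val_fin_one]
    rintro ⟨rfl, e⟩
    rw [zero_add] at e
    simp [e] at hτ)
  have o5 := ord (x * y) 5 (by norm_num) (Ico.pow_five hτ hz) (by
    rw [e0]; rintro ⟨e, e'⟩; simp at e e'; simp [e'] at e)
  have hX : x ∈ closure {x, y} := subset_closure (.inl rfl)
  have hY : y ∈ closure {x, y} := subset_closure (.inr rfl)
  have two : (2 : F) ≠ 0 := Ring.two_ne_zero h0
  have c2 := card_center_SL2' two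
  have hZ : center _ ≤ closure {x, y} := by
    rw [← eq_zpowers_of_prime (x := x * x) (by rw [c2]; exact Nat.prime_two)
      (mem_center_iff.2 fun k => Subtype.ext (by simp [hx])) fun e => two (by
        have := congrArg (fun g : SL(2, F) => g.1 0 0) e
        simp [hx] at this
        linear_combination -this), zpowers_le]
    exact mul_mem hX hX
  have h3 := card_mul_relIndex hZ
  have h4 := relIndex_ker (closure {x, y}) π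
  rw [QuotientGroup.ker_mk'] at h4
  rw [c2, h4] at h3
  refine ⟨(closure {x, y}).map π, ?_⟩
  replace hX := mem_map_of_mem π hX
  replace hY := mem_map_of_mem π hY
  rw [map_mul] at o5
  generalize (closure {x, y}).map π = H at *
  have d2 := o2 ▸ orderOf_dvd_card hX
  have d3 := o3 ▸ orderOf_dvd_card hY
  have d5 := o5 ▸ orderOf_dvd_card (mul_mem hX hY)
  have := card_pos' H
  by_contra h60
  have h5 := card_mul_relIndex (zpowers_le.2 hX)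
  rw [Nat.card_zpowers, o2] at h5
  have hK := cyclic_pdiv_normal_complement (p := 2) ⟨zpowers_le.2 hX, .of_card (n := 1)
    (by rw [Nat.card_zpowers, o2, pow_one]), by omega⟩ inferInstance fun q hq _ => hq.two_le
  have key : ∀ g ∈ H, (orderOf g).Coprime 2 → g ∈ Op' 2 H := fun g hg e =>
    le_of_coprime_relIndex (zpowers_le.2 hg) hK.normal.2 (by
      rwa [hK.relIndex_left, Nat.card_zpowers, Nat.card_zpowers, o2]) (mem_zpowers g)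
  exact not_dvd_Op' H (o2 ▸ orderOf_dvd_card ((mul_mem_cancel_right (key _ hY (by rw [o3]; norm_num))).1
    (key _ (mul_mem hX hY) (by rw [o5]; norm_num))))

theorem isSquare_five : ∀ a : ZMod 4, ∀ q : ZMod 5, q ^ 2 = 1 ∨ q = 0 →
    ∃ r, ZMod.χ₄ a * q = r * r := by decide

theorem exists_sixty' (h2 : Fintype.card F % 2 = 1) (h5 : 5 ∣ Nat.card PSL(2, F)) :
    ∃ H : Subgroup PSL(2, F), ♯H = 60 := by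
  have h : ringChar F ≠ 2 := mt FiniteField.even_card_iff_char_two.1 (by omega)
  have : Fact (Nat.Prime 5) := ⟨by norm_num⟩
  have h6 := h5.trans (card_quotient_dvd_card _)
  rw [Lin.card_SL2] at h6
  obtain ⟨s, hs⟩ := (FiniteField.isSquare_odd_prime_iff h (p := 5) (by norm_num)).2 (by
    have h7 : (Fintype.card F : ZMod 5) ^ 2 = 1 ∨ (Fintype.card F : ZMod 5) = 0 := by
      have := (ZMod.natCast_eq_zero_iff _ _).2 h6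
      rw [Nat.cast_mul, Nat.cast_mul, Nat.cast_sub Fintype.card_pos] at this
      simp only [mul_eq_zero, Nat.cast_one, Nat.cast_add, sub_eq_zero, add_eq_zero_iff_eq_neg] at this
      rcases this with e | e | e <;> simp [e]
    exact mt quadraticChar_neg_one_iff_not_isSquare.1 (not_not.2 (isSquare_five _ _ h7)))
  have two := Ring.two_ne_zero h
  refine exists_sixty h (τ := (1 + s) / 2) ?_
  field_simp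
  push_cast at hs
  linear_combination -hs

end Cfsg.Agent.E8
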