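import Cfsg.Agent.Lib.Blk.Main
import Cfsg.Agent.Lib.ODD.Char1
import Cfsg.Agent.Lib.Cls.Camina
import Cfsg.Agent.Lib.BSW.SL2Sub

/-!
# Elementary abelian Sylow 2-subgroups with 2-nilpotent involution centralizers: the order bound
-/

set_option autoImplicit false
set_option linter.unusedSectionVars false

namespace Cfsg.Agent.E8

open Subgroup Cfsg.Agent.Coprime Cfsg.Agent.OO Cfsg.Agent.Blk
open scoped Pointwise ComplexConjugate

universe u

variable {G : Type u} [Group G] [Finite G]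

theorem prB_avg {p : ℕ} [Fact p.Prime] {W Y Γ : Subgroup G} (hW : W ⊴ Y) (hp : ¬ p ∣ ♯W)
    (hR : Reg p Y ⊆ W) (hY : Y ≤ Γ) {φ : G → ℂ} (hφ : φ ∈ CF Γ) {x : G} (hx : x ∈ Y) :
    ♯W * prB p Y φ x = ∑ w ∈ elts (W : Set G), φ (w * x) := by
  have h1 : ∀ F : G → ℂ, ∑ y ∈ elts (Y : Set G), cf1 W y * F y = ∑ w ∈ elts (W : Set G), F w :=
    fun F => by
      rw [← sum_elts_subset (A := W) hW.le fun y _ hy => by rw [cf1_of_not_mem hy, zero_mul]]
      exact Finset.sum_congr rfl fun y hy => by rw [cf1E (mem_elts.1 hy), one_mul]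
  have h2 : Reg p Y = W := hR.antisymm fun w hw =>
    mem_Reg.2 ⟨hW.le hw, fun e => hp (e.trans (W.orderOf_dvd_natCard hw))⟩
  rw [Finset.sum_congr rfl fun w hw => (cfResE φ (Y.mul_mem (hW.le (mem_elts.1 hw)) hx)).symm.trans
    (cfun_apply_sum_cfdot (cfRes_mem_CF hY hφ) _), Finset.sum_comm, prB_apply, Finset.mul_sum,
    ← Finset.sum_subset (B0_subset (p := p))]
  · refine Finset.sum_congr rfl fun χ hχ => ?_
    rw [← Finset.mul_sum, Finset.sum_congr rfl fun w hw =>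
      cfkerMl (le_cfker_of_mem_B0 hχ hW hp (mem_elts.1 hw)) x, sum_elts_const, cfdot_cfRes_left,
      nsmul_eq_mul, mul_left_comm]
  · intro χ hχ h'
    have h3 := irr_conv (mem_Irr.1 hχ) (cf1_mem_CF_of_normal hW) x
    rw [mem_B0, h2, not_and, not_not] at h'
    rw [h1, h1, h' (mem_Irr.1 hχ), zero_mul] at h3
    rw [← Finset.mul_sum, (mul_eq_zero.1 h3).resolve_left (irr1_neq0 (mem_Irr.1 hχ)), mul_zero]

/-- `S` is an elementary abelian Sylow 2-subgroup normalizing the odd order group `W`, the group `W S`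
contains the centralizers of the involutions of `S`, which are fused in `N(W)`. -/
structure Hyp (W S : Subgroup G) (t : G) : Prop where
  odd : ¬ 2 ∣ ♯W
  syl : Syl 2 S ⊤
  sq : ∀ s ∈ S, s * s = 1
  norm : S ≤ 𝐍(W)
  mem : t ∈ S
  ne : t ≠ 1
  cent : ∀ s ∈ S, s ≠ 1 → 𝐂[s] ≤ W ⊔ S
  trans : ∀ s ∈ S, s ≠ 1 → ∃ g ∈ 𝐍(W), g * t * g⁻¹ = s

namespace Hyp

variable {W S : Subgroup G} {t : G} (h : Hyp W S t)
include h

theorem prod : IsProd W S (W ⊔ S) := IsProd.of_norm (.inr h.norm)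

theorem normal : W ⊴ W ⊔ S := ⟨le_sup_left, sup_le (le_norm_self W) h.norm⟩

theorem inf_eq : W ⊓ S = ⊥ := inf_eq_bot_of_coprime_card
  (coprime_of_isPGroup h.syl.isPGroup ((piGrp_compl_singleton Nat.prime_two).2 h.odd)).symm

theorem ab : Ab S := BSW.comm_of_mul_self h.sq

theorem eq_one {w : G} (hw : w ∈ W) (h2 : w * w = 1) : w = 1 := by
  by_contra e
  exact h.odd (orderOf_eq_prime (p := 2) (by rwa [pow_two]) e ▸ W.orderOf_dvd_natCard hw)

theorem reg : Reg 2 (W ⊔ S) ⊆ W := fun y hy => by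
  refine BSW.mem_of_coprime_relIndex h.normal.2 hy.1 ?_
  obtain ⟨k, hk⟩ := IsPGroup.iff_card.1 h.syl.isPGroup
  refine Nat.Coprime.coprime_dvd_right (m := 2 ^ k) ?_
    (((Nat.Prime.coprime_iff_not_dvd Nat.prime_two).2 hy.2).symm.pow_right k)
  rw [h.prod.symm.relIndex_eq, ← hk]
  exact relIndex_dvd_card _ _

theorem exists_conj_mem {x : G} {M : Subgroup G} (hM : S ≤ M) (hx : x ∈ M) (h2 : x * x = 1) :
    ∃ g ∈ M, g * x * g⁻¹ ∈ S := by
  obtain ⟨g, hg, e⟩ := (h.syl.mono hM le_top).exists_conj_le (zpowers_le.2 hx)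
    (abelem_isPGroup (abelem_zpowers (p := 2) (by rwa [pow_two])))
  exact ⟨g, hg, e (conj_mem_conj (mem_zpowers x))⟩

theorem exists_conj {x : G} (hx : x ∈ ODD.Invs G) : ∃ g, g * t * g⁻¹ = x := by
  obtain ⟨g, -, e⟩ := h.exists_conj_mem le_top (mem_top x) hx.2
  obtain ⟨k, -, e'⟩ := h.trans _ e (BSW.conj_ne_one hx.1)
  exact ⟨g⁻¹ * k, by rw [mul_inv_rev, mul_assoc g⁻¹, mul_assoc g⁻¹, ← mul_assoc _ k⁻¹, e']; group⟩

theorem avg {φ : G → ℂ} (hφ : φ ∈ CF ⊤) {s : G} (hs : s ∈ S) (h1 : s ≠ 1) :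
    ♯W * prB 2 ⊤ φ s = ∑ w ∈ elts (W : Set G), φ (w * s) := by
  have := prB_of_cent_le (p := 2) (k := 1) le_top (mem_sup_right hs) (by simpa [pow_two] using h.sq s hs)
    (inf_le_right.trans (h.cent s hs h1)) one_mem_Reg hφ
  rw [mul_one] at this
  rw [← this, prB_avg h.normal h.odd h.reg le_top hφ (mem_sup_right hs)]

theorem card_cent : ♯𝐂[t] = ♯(W ⊓ 𝐂[t]) * ♯S := by
  have h1 := (h.prod.inf_of_right_le (h.ab.le_cent.trans (cent_le_cent1 h.mem))).card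
  rw [inf_eq_right.2 (h.cent t h.mem h.ne), inf_right_comm, h.inf_eq, bot_inf_eq, card_bot,
    mul_one] at h1
  exact h1.symm

theorem card_invs : (elts (ODD.Invs G)).card * (♯(W ⊓ 𝐂[t]) * ♯S) = Nat.card G := by
  rw [← h.card_cent, card_elts_set, ← 𝐂[t].index_mul_card, ← Cls.ncard_conjugatesOf]
  congr 2
  ext x
  exact ⟨fun hx => isConj_iff.2 (h.exists_conj hx), fun hx => by
    obtain ⟨g, rfl⟩ := isConj_iff.1 hx
    exact ODD.conj_mem_invs.2 ⟨h.ne, h.sq t h.mem⟩⟩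

theorem card_coset {s : G} (hs : s ∈ S) (h1 : s ≠ 1) :
    {w | w ∈ W ∧ w * s ∈ ODD.Invs G}.ncard * ♯(W ⊓ 𝐂[t]) = ♯W := by
  have h2 : ♯(W ⊓ 𝐂[t]) = ♯(W ⊓ 𝐂[s]) := by
    obtain ⟨g, hg, rfl⟩ := h.trans s hs h1
    rw [cent1_conj, ← card_conj g, conj_inf, conj_eq_of_mem_norm hg]
  rw [h2, ← card_mul_relIndex (inf_le_left : W ⊓ 𝐂[s] ≤ W), ← Camina.ncard_class, mul_comm,
    ← Set.ncard_image_of_injective _ (mul_left_injective s)]
  congr 2
  have s2 := h.sq s hs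
  ext y
  constructor
  · rintro ⟨w, ⟨hw, hw'⟩, rfl⟩
    have h3 : s * (w * s) ∈ W := by
      have := conj_mem_of_norm (h.norm hs) hw
      rwa [BSW.inv_eq_of_mul_self s2, mul_assoc] at this
    obtain ⟨k, hk⟩ := BSW.exists_conj_of_odd s2 hw'.2 (Nat.not_even_iff_odd.1 fun e =>
      h.odd (e.two_dvd.trans (W.orderOf_dvd_natCard h3)))
    exact ⟨_, pow_mem h3 k, hk.symm⟩
  · rintro ⟨x, hx, rfl⟩
    refine ⟨x * (s * x⁻¹ * s⁻¹), ⟨mul_mem hx (conj_mem_of_norm (h.norm hs) (inv_mem hx)), ?_⟩, by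
      simp [mul_assoc]⟩
    rw [show x * (s * x⁻¹ * s⁻¹) * s = x * s * x⁻¹ by group]
    exact ODD.conj_mem_invs.2 ⟨h1, s2⟩

theorem mem_of_mul {x y w : G} (hx : x ∈ ODD.Invs G) (hy : y ∈ ODD.Invs G) (hw : w ∈ W)
    (e : x * y = w * t) : x ∈ W ⊔ S := by
  have h1 : w * t ∈ W ⊔ S := mul_mem (mem_sup_left hw) (mem_sup_right h.mem)
  have h2 : 2 ∣ orderOf (w * t) := by
    by_contra h2
    have := (W.mul_mem_cancel_left hw).1 (h.reg ⟨h1, h2⟩)
    exact h.ne (h.eq_one this (h.sq t h.mem))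
  obtain ⟨k, hk⟩ := h2
  have k0 : k ≠ 0 := by rintro rfl; exact (orderOf_pos _).ne' hk
  have h3 : (w * t) ^ k * (w * t) ^ k = 1 := by rw [← pow_add, ← two_mul, ← hk, pow_orderOf_eq_one]
  have h4 : (w * t) ^ k ≠ 1 := pow_ne_one_of_lt_orderOf k0 (by omega)
  have h5 : x * (w * t) ^ k * x⁻¹ = (w * t) ^ k := by
    rw [← conj_pow, ← e, ← mul_assoc x, hx.2, one_mul, ← inv_inj, ← inv_pow, mul_inv_rev, inv_inv,
      BSW.inv_eq_of_mul_self hy.2, e, BSW.inv_eq_of_mul_self h3]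
  obtain ⟨g, hg, h6⟩ := h.exists_conj_mem le_sup_right (pow_mem h1 k) h3
  have h7 := h.cent _ h6 (BSW.conj_ne_one h4)
    (cent1_conj g _ ▸ conj_mem_conj (mem_cent1_iff_conj.2 h5))
  rwa [mul_mem_cancel_right (inv_mem hg), mul_mem_cancel_left hg] at h7

theorem sum_inv {s : G} (hs : s ∈ S) (h1 : s ≠ 1) :
    (∑ w ∈ elts (W : Set G), (ODD.Invs G).indicator (1 : G → ℂ) (w * s)) * ♯(W ⊓ 𝐂[t]) = ♯W := by
  classical
  rw [← h.card_coset hs h1, ← card_elts_set]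
  simp only [Set.indicator_apply, Pi.one_apply, Finset.sum_boole, Nat.cast_mul]
  congr 3
  ext; simp

theorem sum_Y (F : G → ℂ) : ∑ y ∈ elts ((W ⊔ S : Subgroup G) : Set G), F y =
    ∑ s ∈ elts (S : Set G), ∑ w ∈ elts (W : Set G), F (w * s) := by
  rw [← Finset.sum_product']
  refine (Finset.sum_bij (fun p _ => p.2 * p.1) (fun p hp => ?_) (fun p hp q hq e => ?_)
    (fun y hy => ?_) fun _ _ => rfl).symm
  · simp only [Finset.mem_product, mem_elts] at hp ⊢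
    exact mul_mem (mem_sup_left hp.2) (mem_sup_right hp.1)
  · simp only [Finset.mem_product, mem_elts] at hp hq
    have h1 : q.2⁻¹ * p.2 = q.1 * p.1⁻¹ := by rw [inv_mul_eq_iff_eq_mul, ← mul_assoc, ← e]; simp
    have h2 : q.2⁻¹ * p.2 = 1 := mem_bot.1 (h.inf_eq ▸
      (⟨W.mul_mem (W.inv_mem hq.2) hp.2, h1 ▸ S.mul_mem hq.1 (S.inv_mem hp.1)⟩ : _ ∈ W ⊓ S))
    exact Prod.ext (mul_inv_eq_one.1 (h1 ▸ h2)).symm (inv_mul_eq_one.1 h2).symm
  · obtain ⟨a, ha, b, hb, rfl⟩ := h.prod.mem_iff.1 (mem_elts.1 hy)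
    exact ⟨(b, a), by simp [ha, hb], rfl⟩

theorem sum_pairs : (∑ w ∈ elts (W : Set G), ∑ x ∈ elts (ODD.Invs G),
    (ODD.Invs G).indicator (1 : G → ℂ) (x⁻¹ * (w * t))) * ♯(W ⊓ 𝐂[t]) ^ 2 = (♯S - 2) * ♯W ^ 2 := by
  classical
  let F : G → ℂ := fun x => (ODD.Invs G).indicator 1 x *
    ∑ w ∈ elts (W : Set G), (ODD.Invs G).indicator (1 : G → ℂ) (x⁻¹ * (w * t))
  have z : ∀ w ∈ W, (ODD.Invs G).indicator (1 : G → ℂ) w = 0 := fun w hw =>
    Set.indicator_of_notMem (fun e => e.1 (h.eq_one hw e.2)) _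
  have e1 : ∀ s ∈ S, ∀ v ∈ W, ∑ w ∈ elts (W : Set G), (ODD.Invs G).indicator (1 : G → ℂ)
      ((v * s)⁻¹ * (w * t)) = ∑ w ∈ elts (W : Set G), (ODD.Invs G).indicator 1 (w * (s * t)) :=
    fun s hs v hv => by
      rw [← sum_elts_mul_left hv, ← sum_elts_conj (h.norm hs)]
      exact Finset.sum_congr rfl fun w _ => by
        congr 1; nth_rw 4 [← BSW.inv_eq_of_mul_self (h.sq s hs)]; group
  rw [Finset.sum_comm, Finset.sum_congr rfl (g := F) fun x hx => by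
      simp only [F, Set.indicator_of_mem (mem_elts.1 hx), Pi.one_apply, one_mul],
    sum_elts_subset (B := (⊤ : Subgroup G)) (fun x _ => mem_top x) fun x _ hx => by
      simp only [Set.indicator_of_notMem hx, zero_mul],
    ← sum_elts_subset (A := (W ⊔ S : Subgroup G)) (fun x _ => mem_top x) fun x _ hx => ?_, h.sum_Y,
    Finset.sum_mul, ← Finset.sum_subset (Finset.sdiff_subset (t := {1, t})) fun s hs hs' => ?_,
    Finset.sum_congr rfl (g := fun _ => (♯W : ℂ) ^ 2) fun s hs => ?_, Finset.sum_const,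
    Finset.card_sdiff_of_subset (by simp [Finset.insert_subset_iff, h.mem, one_mem]), card_elts,
    Finset.card_pair h.ne.symm, nsmul_eq_mul, Nat.cast_sub, Nat.cast_ofNat]
  · rw [← orderOf_eq_prime (p := 2) (by rw [pow_two, h.sq t h.mem]) h.ne]
    exact Nat.le_of_dvd (card_pos' S) (S.orderOf_dvd_natCard h.mem)
  · simp only [Finset.mem_sdiff, mem_elts, Finset.mem_insert, Finset.mem_singleton, not_or] at hs
    have h1 : s * t ≠ 1 := fun e => hs.2.2 (by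
      rw [eq_inv_of_mul_eq_one_left e, BSW.inv_eq_of_mul_self (h.sq t h.mem)])
    rw [Finset.sum_congr rfl fun v hv => congrArg _ (e1 s hs.1 v (mem_elts.1 hv)), ← Finset.sum_mul,
      pow_two, pow_two, mul_mul_mul_comm, h.sum_inv hs.1 hs.2.1, h.sum_inv (mul_mem hs.1 h.mem) h1]
  · simp only [Finset.mem_sdiff, hs, Finset.mem_insert, Finset.mem_singleton, true_and,
      not_not] at hs'
    refine mul_eq_zero_of_left (Finset.sum_eq_zero fun v hv => ?_) _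
    rcases hs' with rfl | rfl
    · simp only [mul_one, z v (mem_elts.1 hv), zero_mul]
    · rw [e1 s h.mem v (mem_elts.1 hv), h.sq s h.mem, Finset.sum_eq_zero fun w hw => by
        rw [mul_one, z w (mem_elts.1 hw)], mul_zero]
  · by_cases h1 : x ∈ ODD.Invs G
    · refine mul_eq_zero_of_right _ (Finset.sum_eq_zero fun w hw =>
        Set.indicator_of_notMem (fun e => hx (h.mem_of_mul h1 e (mem_elts.1 hw) (by simp))) _)
    · simp only [Set.indicator_of_notMem h1, zero_mul]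

omit h in
theorem exists_sum {χ : G → ℂ} (hχ : IsIrr ⊤ χ) (K : Subgroup G) :
    ∃ m : ℕ, ∑ x ∈ elts (K : Set G), χ x = ♯K * m := by
  obtain ⟨m, hm⟩ := Cnat_cfdot_char (hχ.isChar.cfRes (le_top : K ≤ ⊤)) (isChar_cf1 K)
  rw [cfdot_cfRes_left, cfdotE, inv_mul_eq_iff_eq_mul₀ (cardC_ne_zero K)] at hm
  exact ⟨m, hm ▸ Finset.sum_congr rfl fun x hx => by rw [cf1E (mem_elts.1 hx), map_one, mul_one]⟩

theorem vals {χ : G → ℂ} (hχ : IsIrr ⊤ χ) :
    ∃ (d : ℤ) (f : ℕ), 0 < f ∧ χ 1 = f ∧ ∀ x ∈ ODD.Invs G, χ x = d := by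
  obtain ⟨f, hf⟩ := Cnat_char1 hχ.isChar
  have o2 := orderOf_eq_prime (p := 2) (by rw [pow_two, h.sq t h.mem]) h.ne
  obtain ⟨d, hd⟩ := Cint_vchar_of_pow (irr_vchar hχ) (x := t) fun k hk => by
    rw [← pow_mod_orderOf, o2, Nat.odd_iff.1 (Nat.coprime_two_right.1 (o2 ▸ hk)), pow_one]
  refine ⟨d, f, Nat.pos_of_ne_zero fun e => irr1_neq0 hχ (by rw [hf, e, Nat.cast_zero]), hf,
    fun x hx => ?_⟩
  obtain ⟨g, rfl⟩ := h.exists_conj hx
  rw [cfunJ hχ.mem_CF (mem_top g), hd]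

omit h in
theorem sum_S {F : G → ℂ} {a : ℂ} (hF : ∀ s ∈ S, s ≠ 1 → F s = a) :
    ∑ s ∈ elts (S : Set G), F s = F 1 + (♯S - 1) * a := by
  classical
  rw [← Finset.add_sum_erase _ _ (mem_elts.2 S.one_mem), Finset.sum_congr rfl fun s hs =>
    hF s (mem_elts.1 (Finset.mem_of_mem_erase hs)) (Finset.ne_of_mem_erase hs), Finset.sum_const,
    Finset.card_erase_of_mem (mem_elts.2 S.one_mem), card_elts, nsmul_eq_mul,
    Nat.cast_sub (card_pos' S), Nat.cast_one]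

theorem deg {χ : G → ℂ} (hχ : χ ∈ B0 2 ⊤) (hW : ¬ W ≤ cfker ⊤ χ) {d : ℤ} {f : ℕ} (hf : χ 1 = f)
    (hd : ∀ x ∈ ODD.Invs G, χ x = d) : (♯S : ℤ) ≤ f + (♯S - 1) * d := by
  have hi := isIrr_of_mem_B0 hχ
  obtain ⟨m, hm⟩ := exists_sum hi S
  obtain ⟨f0, hf0⟩ := exists_sum hi W
  obtain ⟨m0, hm0⟩ := exists_sum hi (W ⊔ S)
  rw [sum_S fun s hs h1 => hd s ⟨h1, h.sq s hs⟩, hf] at hm
  rw [h.sum_Y, sum_S (a := ♯W * d) fun s hs h1 => by
    rw [← h.avg hi.mem_CF hs h1, prB_of_mem hχ, hd s ⟨h1, h.sq s hs⟩],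
    card_sup_of_inf_eq_bot (.inr h.norm) h.inf_eq] at hm0
  simp only [mul_one, hf0] at hm0
  have e1 : (f0 : ℂ) + (♯S - 1) * d = ♯S * m0 :=
    mul_left_cancel₀ (cardC_ne_zero W) (by push_cast at hm0; linear_combination hm0)
  have e2 : (f0 : ℝ) < f := by
    obtain ⟨w, hw, hw'⟩ := SetLike.not_le_iff_exists.1 hW
    have := Finset.sum_lt_sum (s := elts (W : Set G)) (fun x _ => re_char_le hi.isChar x)
      ⟨w, mem_elts.2 hw, lt_of_not_ge fun e =>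
        hw' ((cfkerEchar hi.isChar).2 ⟨mem_top w, eq_one_of_re_char hi.isChar e⟩)⟩
    rw [← Complex.re_sum, hf0, sum_elts_const, hf] at this
    simpa [card_pos'] using this
  have e3 : (f0 : ℤ) + (♯S - 1) * d = ♯S * m0 := by exact_mod_cast e1
  have e4 : (f : ℤ) + (♯S - 1) * d = ♯S * m := by exact_mod_cast hm
  have e5 : (f0 : ℤ) < f := by exact_mod_cast e2
  rcases m with _ | m
  · have : (0 : ℤ) ≤ ♯S * m0 := by positivity
    simp at e4; omega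
  · rw [e4]; push_cast; nlinarith [Nat.cast_nonneg (α := ℤ) (♯S * m)]

theorem bound (hO : ∀ N : Subgroup G, N.Normal → ¬ 2 ∣ ♯N → N = ⊥) (hW : W ≠ ⊥) {c : ℝ}
    (c0 : 0 ≤ c) (hc : ∀ k : ℕ, k ^ 2 ≤ ♯S → k ≤ c * (♯S + (♯S - 1) * k)) :
    Nat.card G * (1 + 2 * c - c * ♯S) ≤ ♯S ^ 2 * (♯S - 2) * ♯W := by
  classical
  choose! d f f0 hf hd using fun χ (hχ : χ ∈ B0 2 ⊤) => h.vals (isIrr_of_mem_B0 hχ)
  have ht : t ∈ ODD.Invs G := ⟨h.ne, h.sq t h.mem⟩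
  have hn : ((elts (ODD.Invs G)).card * (♯(W ⊓ 𝐂[t]) * ♯S) : ℂ) = ♯(⊤ : Subgroup G) := by
    rw [card_top]; exact_mod_cast h.card_invs
  have hs : ∀ χ ∈ B0 2 ⊤, ∑ x ∈ elts (ODD.Invs G), χ x = (elts (ODD.Invs G)).card * d χ :=
    fun χ hχ => by
      rw [Finset.sum_congr rfl fun x hx => hd χ hχ x (mem_elts.1 hx), Finset.sum_const, nsmul_eq_mul]
  have n1 := cardC_ne_zero W
  have n2 := cardC_ne_zero (⊤ : Subgroup G)
  have n3 := cardC_ne_zero S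
  have e1 : ∑ χ ∈ B0 2 ⊤, (d χ : ℝ) ^ 2 = ♯S := by
    have := h.sum_inv h.mem h.ne
    rw [← h.avg ODD.indicator_invs_mem h.mem h.ne, prB_apply, Finset.sum_congr rfl
      (g := fun χ => (♯(⊤ : Subgroup G) : ℂ)⁻¹ * (elts (ODD.Invs G)).card * d χ ^ 2) fun χ hχ => by
        rw [cfdotE, ODD.sum_indicator_invs fun x => conj (χ x), ← map_sum, hs χ hχ, hd χ hχ t ht]
        simp; ring, ← Finset.mul_sum] at this
    have : ∑ χ ∈ B0 2 ⊤, (d χ : ℂ) ^ 2 = ♯S := by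
      field_simp at this
      refine mul_left_cancel₀ n2 ?_
      linear_combination ♯S * this - (∑ χ ∈ B0 2 ⊤, (d χ : ℂ) ^ 2) * hn
    exact_mod_cast this
  have e2 : ∑ χ ∈ B0 2 ⊤, (f χ : ℤ) * d χ = 0 := by
    have := weak_orth (p := 2) one_mem_Reg (mem_top t)
      (orderOf_eq_prime (p := 2) (by rw [pow_two, ht.2]) h.ne).symm.dvd
    rw [Finset.sum_congr rfl (g := fun χ => (f χ : ℂ) * d χ) fun χ hχ => by
      rw [hf χ hχ, hd χ hχ t ht, map_intCast]] at this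
    exact_mod_cast this
  have e3 : (Nat.card G : ℝ) * ∑ χ ∈ B0 2 ⊤, (d χ : ℝ) ^ 3 / f χ = ♯S ^ 2 * (♯S - 2) * ♯W := by
    have ha : (fun g => ∑ x ∈ elts (ODD.Invs G), (ODD.Invs G).indicator (1 : G → ℂ) (x⁻¹ * g)) ∈
        CF (⊤ : Subgroup G) := mem_CF_of (fun x hx => (hx (mem_top x)).elim) fun g _ y _ => by
      rw [← sum_elts_equiv (MulAut.conj g).toEquiv fun x => ODD.conj_mem_invs.symm]
      refine Finset.sum_congr rfl fun x _ => ?_
      rw [← cfunJ ODD.indicator_invs_mem (mem_top g) (x⁻¹ * y)]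
      simp [mul_assoc]
    have := h.sum_pairs
    rw [← h.avg ha h.mem h.ne, prB_apply, Finset.sum_congr rfl
      (g := fun χ => (♯(⊤ : Subgroup G) : ℂ)⁻¹ * (elts (ODD.Invs G)).card ^ 2 * (d χ ^ 3 / f χ))
      fun χ hχ => ?_, ← Finset.mul_sum] at this
    · have : (♯(⊤ : Subgroup G) : ℂ) * ∑ χ ∈ B0 2 ⊤, (d χ : ℂ) ^ 3 / f χ =
          ♯S ^ 2 * (♯S - 2) * ♯W := by
        generalize ∑ χ ∈ B0 2 ⊤, (d χ : ℂ) ^ 3 / f χ = X at this ⊢
        field_simp at this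
        refine mul_left_cancel₀ n2 ?_
        linear_combination ♯S ^ 2 * this - X * (♯(⊤ : Subgroup G) +
          (elts (ODD.Invs G)).card * (♯(W ⊓ 𝐂[t]) * ♯S)) * hn
      rw [card_top] at this
      exact_mod_cast this
    · have e := ODD.invSum_dirr (Or.inl (isIrr_of_mem_B0 hχ))
      have f1 : (f χ : ℂ) ≠ 0 := by exact_mod_cast (f0 χ hχ).ne'
      rw [hs χ hχ, hf χ hχ, mul_comm, ← eq_div_iff f1] at e
      simp only [cfdotE, Finset.sum_mul]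
      rw [Finset.sum_comm, Finset.sum_congr rfl fun x _ => (sum_elts_mul_left (mem_top x) _).symm]
      simp only [inv_mul_cancel_left]
      rw [Finset.sum_congr rfl fun x _ => ODD.sum_indicator_invs fun y => conj (χ (x * y)),
        Finset.sum_comm]
      simp only [← map_sum]
      rw [← ODD.invSum, e, hd χ hχ t ht]
      simp; ring
  have one : (d (cf1 ⊤) : ℝ) = 1 ∧ (f (cf1 ⊤) : ℝ) = 1 := by
    have h1 := hd _ cf1_mem_B0 t ht
    have h2 := hf _ (cf1_mem_B0 (p := 2))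
    rw [cf1E (mem_top _)] at h1 h2
    exact ⟨by exact_mod_cast h1.symm, by exact_mod_cast h2.symm⟩
  have q2 : (2 : ℤ) ≤ ♯S := by
    have := Nat.le_of_dvd (card_pos' S) (S.orderOf_dvd_natCard h.mem)
    rw [orderOf_eq_prime (p := 2) (by rw [pow_two, ht.2]) h.ne] at this
    exact_mod_cast this
  have neg : ∀ χ ∈ B0 2 ⊤, d χ < 0 → (♯S : ℤ) ≤ f χ + (♯S - 1) * d χ := fun χ hχ hlt => by
    have hi := isIrr_of_mem_B0 hχ
    refine h.deg hχ (fun e => hW (le_bot_iff.1 (hO _ ?_ (fun e2 => ?_) ▸ e))) (hf χ hχ) (hd χ hχ)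
    · exact normalizer_eq_top_iff.1 (top_le_iff.1 (cfker_normal hi.mem_CF).2)
    · obtain ⟨x, hx⟩ := exists_prime_orderOf_dvd_card' 2 e2
      have h1 := cfker1 x.2
      rw [hd χ hχ x ⟨fun e => by simp [← orderOf_coe, e] at hx, by
        rw [← pow_two, ← hx, ← orderOf_coe, pow_orderOf_eq_one]⟩, hf χ hχ] at h1
      have : d χ = f χ := by exact_mod_cast h1
      omega
  have nn : ∀ χ ∈ B0 2 ⊤, 0 ≤ (d χ : ℝ) ^ 3 / f χ + c * d χ ^ 2 := fun χ hχ => by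
    have f1 : (0 : ℝ) < f χ := by exact_mod_cast f0 χ hχ
    rcases lt_or_ge (d χ) 0 with h1 | h1
    · obtain ⟨k, hk⟩ := Int.eq_ofNat_of_zero_le (neg_nonneg.2 h1.le)
      have h2 : (♯S : ℝ) ≤ f χ + (♯S - 1) * d χ := by exact_mod_cast neg χ hχ h1
      have h3 : (d χ : ℝ) = -k := by exact_mod_cast neg_eq_iff_eq_neg.1 hk
      have h4 := Finset.single_le_sum (f := fun χ => (d χ : ℝ) ^ 2) (fun _ _ => sq_nonneg _) hχ
      rw [e1, h3, neg_sq] at h4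
      have h5 := hc k (by exact_mod_cast h4)
      rw [h3] at h2 ⊢
      rw [div_add' _ _ _ f1.ne']
      refine div_nonneg ?_ f1.le
      have : (k : ℝ) ≤ c * f χ := h5.trans (mul_le_mul_of_nonneg_left (by linarith) c0)
      nlinarith [mul_le_mul_of_nonneg_left this (sq_nonneg (k : ℝ))]
    · have : (0 : ℝ) ≤ d χ := by exact_mod_cast h1
      positivity
  obtain ⟨ψ, hψ, hψ1, hψ2⟩ : ∃ ψ ∈ B0 2 ⊤, ψ ≠ cf1 ⊤ ∧ 0 < d ψ := by
    by_contra hx
    push Not at hx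
    have o1 : d (cf1 ⊤) = 1 := by exact_mod_cast one.1
    have o2 : (f (cf1 ⊤) : ℤ) = 1 := by exact_mod_cast one.2
    rw [← Finset.add_sum_erase _ _ cf1_mem_B0, o1, o2] at e2
    obtain ⟨χ, hχ, h1⟩ := Finset.exists_ne_zero_of_sum_ne_zero (by omega :
      ∑ χ ∈ (B0 2 ⊤).erase (cf1 ⊤), (f χ : ℤ) * d χ ≠ 0)
    have h2 := Finset.single_le_sum (f := fun χ => -((f χ : ℤ) * d χ)) (fun ψ hψ =>
      neg_nonneg.2 (mul_nonpos_of_nonneg_of_nonpos (Nat.cast_nonneg _)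
        (hx ψ (Finset.mem_of_mem_erase hψ) (Finset.ne_of_mem_erase hψ)))) hχ
    rw [Finset.sum_neg_distrib] at h2
    have h3 : d χ < 0 := lt_of_le_of_ne (hx χ (Finset.mem_of_mem_erase hχ)
      (Finset.ne_of_mem_erase hχ)) (right_ne_zero_of_mul h1)
    have h4 := neg χ (Finset.mem_of_mem_erase hχ) h3
    nlinarith
  have h1 := Finset.add_le_sum nn cf1_mem_B0 hψ hψ1.symm
  rw [one.1, one.2, Finset.sum_add_distrib, ← Finset.mul_sum, e1] at h1
  have h2 : (1 : ℝ) ≤ d ψ := by exact_mod_cast hψ2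
  have h3 : 0 ≤ (d ψ : ℝ) ^ 3 / f ψ := by positivity
  rw [← e3]
  refine mul_le_mul_of_nonneg_left ?_ (Nat.cast_nonneg _)
  nlinarith [mul_le_mul_of_nonneg_left (one_le_pow₀ h2 (n := 2)) c0]

end Hyp

end Cfsg.Agent.E8
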