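import Cfsg.Agent.Lib.E8.Field
import Cfsg.Agent.Lib.BSW.SL2Sub
import Cfsg.Agent.Lib.Schur.SLFive
import Cfsg.Agent.Lib.Transfer.PByCyclic
import Cfsg.Agent.Lib.Lin.SL2

/-!
# Identifications: `A₄`, `A₅`, their double covers, `Aut(PSL(2, 2 ^ n))`
-/

set_option autoImplicit false
set_option linter.unusedSectionVars false

namespace Cfsg.Agent.E8

open Subgroup Cfsg.Agent.Coprime Cfsg.Agent.OO
open scoped Pointwise MatrixGroups

universe u

variable {G : Type u} [Group G] [Finite G]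

theorem exists_hom_alt {n : ℕ} (H : Subgroup G) (hi : H.index = n)
    (hc : 2 * Nat.card G = n.factorial * ♯H.normalCore) :
    ∃ g : G →* alternatingGroup (Fin n), Function.Surjective g ∧ g.ker = H.normalCore := by
  let e : G ⧸ H ≃ Fin n := Finite.equivFinOfCardEq hi
  let f := e.permCongrHom.toMonoidHom.comp (MulAction.toPermHom G (G ⧸ H))
  have hk : f.ker = H.normalCore := by
    rw [normalCore_eq_ker, MonoidHom.ker_comp_of_injective _ _ e.permCongrHom.injective]
  have h1 : f.range = alternatingGroup (Fin n) := Equiv.Perm.eq_alternatingGroup_of_index_eq_two (by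
    have h2 := f.range.index_mul_card
    rw [← index_ker f, hk, Nat.card_perm, Nat.card_fin] at h2
    rw [← H.normalCore.index_mul_card, ← h2, ← mul_assoc] at hc
    exact (Nat.eq_of_mul_eq_mul_right (Nat.pos_of_ne_zero index_ne_zero_of_finite)
      (Nat.eq_of_mul_eq_mul_right (card_pos' _) hc)).symm)
  refine ⟨(MulEquiv.subgroupCongr h1).toMonoidHom.comp f.rangeRestrict,
    (MulEquiv.subgroupCongr h1).surjective.comp f.rangeRestrict_surjective, ?_⟩
  rw [MonoidHom.ker_comp_of_injective _ _ (MulEquiv.subgroupCongr h1).injective,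
    MonoidHom.ker_rangeRestrict, hk]

theorem card_center_SL2 (p : ℕ) [Fact p.Prime] (h : (-1 : SL(2, ZMod p)) ≠ 1) :
    ♯(center SL(2, ZMod p)) = 2 :=
  le_antisymm Lin.SL2.card_center_le ((one_lt_card_iff_ne_bot _).2 fun e =>
    h (mem_bot.1 (e ▸ mem_center_iff.2 fun g => by simp)))

theorem exists_hom_SL5 : ∃ g : SL(2, ZMod 5) →* alternatingGroup (Fin 5),
    Function.Surjective g ∧ g.ker = center _ := by
  have : Fact (Nat.Prime 5) := ⟨by norm_num⟩
  obtain ⟨P⟩ : Nonempty (Sylow 2 SL(2, ZMod 5)) := inferInstance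
  have h1 := P.card_eq_index_normalizer.symm.trans Schur.card_sylow_two_SL5
  generalize hH : normalizer (G := SL(2, ZMod 5)) _ = H at h1
  have h2 : center _ ≤ H.normalCore := normal_le_normalCore.2 (hH ▸ center_le_normalizer _)
  have h3 : H.normalCore = center _ := by
    rcases Schur.isQuasisimple_SL5.2.eq_bot_or_eq_top_of_normal _ (Normal.map inferInstance _
      (QuotientGroup.mk'_surjective (center _)) : (H.normalCore.map _).Normal) with e | e
    · exact le_antisymm (by simpa using (Subgroup.map_eq_bot_iff _).1 e) h2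
    · have := comap_map_eq_self (f := QuotientGroup.mk' (center SL(2, ZMod 5))) (H := H.normalCore)
        (by rwa [QuotientGroup.ker_mk'])
      rw [e, comap_top] at this
      rw [top_le_iff.1 (this.le.trans H.normalCore_le), index_top] at h1
      omega
  exact h3 ▸ exists_hom_alt H h1 (by
    rw [h3, card_center_SL2 5 (by decide), Schur.card_SL5]; rfl)

theorem exists_hom_A4 {u w : G} (h1 : u ^ 3 = 1) (h2 : w * u ≠ u * w)
    (h3 : u * (w * u * w⁻¹) ≠ w * u * w⁻¹ * u) (h4 : Nat.card (G ⧸ center G) = 12) :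
    ∃ g : G →* alternatingGroup (Fin 4), Function.Surjective g ∧ g.ker = center _ := by
  let π := QuotientGroup.mk' (center G)
  obtain ⟨e⟩ := Transfer.nonempty_mulEquiv_alternating_four (Y := zpowers (π u)) h4 (by
    rw [Nat.card_zpowers, orderOf_eq_prime (x := π u) (by rw [← map_pow, h1, map_one])
      fun e => h2 (mem_center_iff.1 ((QuotientGroup.eq_one_iff u).1 e) w)])
    fun h => by
      obtain ⟨k, hk⟩ := h.conj_mem _ (mem_zpowers _) (π w)
      have := mem_center_iff.1 (QuotientGroup.eq.1 (show π (u ^ k) = π (w * u * w⁻¹) by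
        simpa using hk)) u
      rw [← mul_assoc u, ((Commute.refl u).zpow_right k).inv_right.eq, mul_assoc _ u,
        mul_assoc (u ^ k)⁻¹, mul_right_inj] at this
      exact h3 this
  exact ⟨e.toMonoidHom.comp π, e.surjective.comp (QuotientGroup.mk'_surjective _), by
    rw [MonoidHom.ker_comp_of_injective _ _ e.injective, QuotientGroup.ker_mk']⟩

theorem exists_hom_SL3 : ∃ g : SL(2, ZMod 3) →* alternatingGroup (Fin 4),
    Function.Surjective g ∧ g.ker = center _ := by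
  have h4 := (center SL(2, ZMod 3)).index_mul_card
  rw [card_center_SL2 3 (by decide), Lin.card_SL2, ZMod.card, index_eq_card] at h4
  exact exists_hom_A4 (u := ⟨!![1, 1; 0, 1], by decide⟩) (w := ⟨!![0, 2; 1, 0], by decide⟩)
    (by decide) (by decide) (by decide) (by omega)

theorem ker_two {X Q : Type*} [Group X] [Group Q] (f : X →* Q) {a : X} (ha : a ≠ 1)
    (ha' : ∀ x, f x = 1 ↔ x = 1 ∨ x = a) : f a = 1 ∧ a * a = 1 ∧ ∀ x, x * a = a * x := by
  have h1 := (ha' a).2 (.inr rfl)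
  refine ⟨h1, ((ha' _).1 (by simp [h1])).resolve_right (by simpa using ha), fun x => ?_⟩
  exact mul_inv_eq_iff_eq_mul.1 (((ha' _).1 (by simp [h1])).resolve_left (BSW.conj_ne_one ha))

theorem sq_eq_one_of_pow (h : ∀ q : G, q ^ 4 = 1 → q ^ 2 = 1) {q : G} {k : ℕ} (hk : q ^ 2 ^ k = 1) :
    q ^ 2 = 1 := by
  induction k generalizing q with
  | zero => rw [(pow_one q).symm.trans hk, one_pow]
  | succ k ih => exact h q (by rw [← ih (q := q ^ 2) (by rwa [← pow_mul, ← pow_succ']), ← pow_mul])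

theorem cover_iso {X Y Q : Type*} [Group X] [Finite X] [Group Y] [Finite Y] [Group Q] [Finite Q]
    (f : X →* Q) (g : Y →* Q) (hf : Function.Surjective f) (hg : Function.Surjective g)
    {a : X} {b : Y} (ha : a ≠ 1) (hb : b ≠ 1) (ha' : ∀ x, f x = 1 ↔ x = 1 ∨ x = a)
    (hb' : ∀ y, g y = 1 ↔ y = 1 ∨ y = b) (hX : ∀ x, x ^ 2 = 1 → f x = 1)
    (hY : ∀ y, y ^ 2 = 1 → g y = 1) (h : ∀ q : Q, q ^ 4 = 1 → q ^ 2 = 1) : Nonempty (X ≃* Y) := by
  obtain ⟨a1, a2, a3⟩ := ker_two f ha ha'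
  obtain ⟨b1, b2, b3⟩ := ker_two g hb hb'
  let P := (f.comp (MonoidHom.fst X Y)).eqLocus (g.comp (MonoidHom.snd X Y))
  let c : P := ⟨(a, b), a1.trans b1.symm⟩
  let z : P := ⟨(a, 1), a1.trans g.map_one.symm⟩
  let z' : P := ⟨(1, b), f.map_one.trans b1.symm⟩
  have hc : zpowers c ≤ center P :=
    zpowers_le.2 (mem_center_iff.2 fun p => Subtype.ext (Prod.ext (a3 _) (b3 _)))
  have : (zpowers c).Normal := ⟨fun x hx g => by
    rwa [mem_center_iff.1 (hc hx) g, mul_inv_cancel_right]⟩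
  let π := QuotientGroup.mk' (zpowers c)
  have sq : ∀ (p : P) (k : ℕ), π p ^ 2 ^ k = 1 → π p ^ 2 = 1 := fun p k hk => by
    have h0 : ∀ p : P, π p = 1 → f p.1.1 = 1 := fun p hp => by
      obtain ⟨i, rfl⟩ := (QuotientGroup.eq_one_iff p).1 hp
      simp [c, a1]
    have h1 : f p.1.1 ^ 2 = 1 := sq_eq_one_of_pow h (k := k) (by simpa using h0 (p ^ 2 ^ k) hk)
    have h2 : f p.1.1 = g p.1.2 := p.2
    refine (QuotientGroup.eq_one_iff (p ^ 2)).2 ?_
    rcases (ha' (p.1.1 ^ 2)).1 (by simpa using h1) with e | e <;>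
      rcases (hb' (p.1.2 ^ 2)).1 (by simpa [← h2] using h1) with e' | e'
    · exact (Subtype.ext (Prod.ext e e') : p ^ 2 = 1) ▸ one_mem _
    · rcases (hb' _).1 (h2 ▸ hX _ e) with e1 | e1 <;> simp [e1, pow_two, b2, hb.symm] at e'
    · rcases (ha' _).1 (h2 ▸ hY _ e') with e1 | e1 <;> simp [e1, pow_two, a2, ha.symm] at e
    · exact (Subtype.ext (Prod.ext e e') : p ^ 2 = c) ▸ mem_zpowers _
  have z1 : π z ≠ 1 := fun e => by
    obtain ⟨i, hi⟩ := (QuotientGroup.eq_one_iff z).1 e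
    have h1 : a ^ i = a := congrArg (fun p : P => p.1.1) hi
    have h2 : b ^ i = 1 := congrArg (fun p : P => p.1.2) hi
    rw [← orderOf_dvd_iff_zpow_eq_one, orderOf_eq_prime (p := 2) (by rwa [pow_two]) hb,
      ← orderOf_eq_prime (p := 2) (by rwa [pow_two]) ha, orderOf_dvd_iff_zpow_eq_one] at h2
    exact ha (h1.symm.trans h2)
  have z2 : π z * π z = 1 := by
    rw [← map_mul, show z * z = 1 from Subtype.ext (Prod.ext a2 (mul_one _)), map_one]
  obtain ⟨T, hT⟩ := (abelem_isPGroup (abelem_zpowers (p := 2) (x := π z)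
    (by rwa [pow_two]))).exists_le_sylow
  have : IsMulCommutative (T : Subgroup (P ⧸ zpowers c)) := BSW.comm_of_mul_self fun w hw => by
    obtain ⟨p, rfl⟩ := QuotientGroup.mk'_surjective _ w
    obtain ⟨k, hk⟩ := T.2 ⟨_, hw⟩
    exact (pow_two _).symm.trans (sq p k (congrArg Subtype.val hk))
  have z3 := mt (BSW.eq_one_of_transfer T (hT (mem_zpowers _)) fun n _ => by
    obtain ⟨p, rfl⟩ := QuotientGroup.mk'_surjective _ n
    rw [← map_mul, ← map_mul]
    exact congrArg _ (Subtype.ext (Prod.ext (a3 _) (by simp [z])))) z1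
  obtain ⟨φ, hφ⟩ := CommGroup.exists_apply_ne_one_of_hasEnoughRootsOfUnity
    (Abelianization (P ⧸ zpowers c)) ℂ (mt (QuotientGroup.eq_one_iff (π z)).1 z3)
  obtain ⟨k, m, hm, e⟩ := Nat.exists_eq_two_pow_mul_odd (Nat.card_pos (α := P ⧸ zpowers c)).ne'
  let ψ := (φ.comp Abelianization.of).comp π ^ m
  have hψ : ∀ p, ψ p = φ (Abelianization.of (π (p ^ m))) := fun p => by simp [ψ]
  have h1 : ∀ p, ψ p = 1 ∨ ψ p = -1 := fun p => by
    have : ψ p ^ 2 = 1 := by
      rw [hψ, ← map_pow, ← map_pow, sq _ k (by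
        rw [map_pow, ← pow_mul, mul_comm, ← e, pow_card_eq_one']), map_one, map_one]
    exact (sq_eq_one_iff.1 (show (ψ p : ℂ) ^ 2 = 1 from congrArg Units.val this)).imp
      Units.ext Units.ext
  have h2 : ψ z = -1 := (h1 z).resolve_left (by
    obtain ⟨j, rfl⟩ := hm
    rwa [hψ, map_pow, pow_succ, pow_mul, pow_two, z2, one_pow, one_mul])
  have h3 : ψ z' = -1 := by
    have : ψ (z * z') = 1 := by
      rw [show z * z' = c from Subtype.ext (Prod.ext (mul_one _) (one_mul _)), hψ,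
        show π (c ^ m) = 1 from (QuotientGroup.eq_one_iff _).2 (pow_mem (mem_zpowers c) m),
        map_one, map_one]
    rwa [map_mul, h2, neg_one_mul, neg_eq_iff_eq_neg] at this
  have n1 : (-1 : ℂˣ) ≠ 1 := fun e => by norm_num [Units.ext_iff] at e
  let i := P.subtype.comp ψ.ker.subtype
  refine ⟨(MulEquiv.ofBijective ((MonoidHom.fst X Y).comp i) ⟨?_, fun x => ?_⟩).symm.trans
    (MulEquiv.ofBijective ((MonoidHom.snd X Y).comp i) ⟨?_, fun y => ?_⟩)⟩
  · refine (injective_iff_map_eq_one _).2 fun p (hp : p.1.1.1 = 1) => ?_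
    rcases (hb' p.1.1.2).1 (p.1.2.symm.trans (show f p.1.1.1 = 1 by rw [hp, map_one])) with e | e
    · exact Subtype.ext (Subtype.ext (Prod.ext hp e))
    · exact (n1 (h3.symm.trans ((Subtype.ext (Prod.ext hp e) : p.1 = z') ▸ p.2))).elim
  · obtain ⟨y, hy⟩ := hg (f x)
    rcases h1 ⟨(x, y), hy.symm⟩ with e | e
    · exact ⟨⟨_, e⟩, rfl⟩
    · refine ⟨⟨(⟨(x, y), hy.symm⟩ : P) * z', ?_⟩, mul_one x⟩
      rw [MonoidHom.mem_ker, map_mul, e, h3, neg_mul_neg, one_mul]
  · refine (injective_iff_map_eq_one _).2 fun p (hp : p.1.1.2 = 1) => ?_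
    rcases (ha' p.1.1.1).1 (p.1.2.trans (show g p.1.1.2 = 1 by rw [hp, map_one])) with e | e
    · exact Subtype.ext (Subtype.ext (Prod.ext e hp))
    · exact (n1 (h2.symm.trans ((Subtype.ext (Prod.ext e hp) : p.1 = z) ▸ p.2))).elim
  · obtain ⟨x, hx⟩ := hf (g y)
    rcases h1 ⟨(x, y), hx⟩ with e | e
    · exact ⟨⟨_, e⟩, rfl⟩
    · refine ⟨⟨(⟨(x, y), hx⟩ : P) * z, ?_⟩, mul_one y⟩
      rw [MonoidHom.mem_ker, map_mul, e, h2, neg_mul_neg, one_mul]

theorem Fr.map {Y F : Type*} [Group Y] [Field F] {S R : Subgroup G} {a : F → G} (fr : Fr S R a)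
    {ι : G →* Y} (hι : Function.Injective ι) : Fr (S.map ι) (R.map ι) (ι ∘ a) where
  add c d := by simp [fr.add]
  inj := hι.comp fr.inj
  mem c := mem_map_of_mem _ (fr.mem c)
  surj := by
    rintro _ ⟨x, hx, rfl⟩
    exact (fr.surj x hx).imp fun _ => congrArg ι
  ex c hc := by
    obtain ⟨r, hr, e⟩ := fr.ex c hc
    exact ⟨_, mem_map_of_mem _ hr, fun d => by simp [← e]⟩
  all := by
    rintro _ ⟨r, hr, rfl⟩
    exact (fr.all r hr).imp fun c e d => by simp [← e]

section aut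

variable {S : Subgroup G} {u : G} (hC : BSW.HypC S u)
include hC

theorem conj_injective : Function.Injective (MulAut.conj : G →* MulAut G) :=
  (injective_iff_map_eq_one _).2 fun x hx => by
    have h : ∀ y, y * x = x * y := fun y =>
      (mul_inv_eq_iff_eq_mul.1 (DFunLike.congr_fun hx y)).symm
    obtain ⟨s, hs, s1, -⟩ := hC.ex
    by_contra x1
    exact hC.t_not_mem (le_normalizer (hC.cc x (hC.cc s hs s1 x (h s).symm) x1 u (h u)))

omit hC in
theorem map_mem_norm {α : MulAut G} (h : ∀ s ∈ S, α s ∈ S) {x : G} (hx : x ∈ 𝐍(S)) :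
    α x ∈ 𝐍(S) := by
  have : S.map α.toMonoidHom = S := eq_of_le_of_card_le (map_le_iff_le_comap.2 h)
    (card_map_of_injective α.injective).ge
  rw [← this]
  exact le_normalizer_map _ (mem_map_of_mem _ hx)

theorem exists_conj_of_fix (hab : Ab S) {α : MulAut G} (h : ∀ s ∈ S, α s = s) :
    ∃ x ∈ S, MulAut.conj x = α := by
  obtain ⟨s, hs, s1, s2⟩ := hC.ex
  obtain ⟨x, hx, k, hk, e⟩ := hC.exists_inv_form (u := α u) (fun e => hC.t_not_mem (by
    simpa using map_mem_norm (α := α⁻¹) (fun s hs => by rwa [← h s hs, MulAut.inv_apply_self]) e))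
    (by rw [← map_mul, hC.t2, map_one])
  refine ⟨x, hx, (inv_mul_eq_one.1 ?_)⟩
  generalize hβ : (MulAut.conj x)⁻¹ * α = β
  have h1 : ∀ s ∈ S, β s = s := fun s hs => by
    rw [← hβ, MulAut.mul_apply, h s hs, MulAut.conj_inv_apply, mul_assoc, ← ab_iff.1 hab x hx s hs,
      inv_mul_cancel_left]
  have h2 : β u = u * k := by rw [← hβ, MulAut.mul_apply, e, MulAut.conj_inv_apply]; group
  have hN := fun x => map_mem_norm (α := β) (x := x) fun s hs => by rwa [h1 s hs]
  have h3 : ∀ j ∈ BSW.Kt S u, β j = j := fun j hj => hC.K_eq_of_conj_eq hs s1 ⟨hN j hj.1, by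
    have := 𝐍(S).mul_mem (𝐍(S).mul_mem (𝐍(S).inv_mem hk.2) (hN _ hj.2)) hk.2
    simpa [h2, mul_assoc] using this⟩ hj (by
      rw [← h1 _ (hC.K_conj_mem hj hs), map_mul, map_mul, map_inv, h1 s hs])
  obtain ⟨y, hy, j, hj, e'⟩ := hC.exists_inv_form (hC.t_conj_not_mem hs s1) (by
    simpa only [hC.t_inv] using BSW.conj_mul_self (g := u) s2)
  have h4 := congrArg β e'
  simp only [map_mul, map_inv, h1 s hs, h1 y hy, h2, h3 j hj] at h4
  have h5 := (hC.bruhat_unique (hC.K_conj_mem (inv_mem hk) hy) (mul_mem (mul_mem hk hj) hk)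
    (hC.K_conj_mem (inv_mem hk) (inv_mem hy)) hy (mul_mem hk hj) (inv_mem hy) (by
      calc _ = k⁻¹ * y * (k * u * k) * j * y⁻¹ * k := by group
        _ = k⁻¹ * (u * s * u) * k := by rw [hC.mul_t hk, e']; group
        _ = u * k * s * (u * k) := by nth_rw 1 [hC.t_mul hk]; group
        _ = _ := by rw [h4]; group)).2.1
  rw [mul_eq_left.1 h5, mul_one] at h2
  ext g
  by_cases hg : g ∈ 𝐍(S)
  · obtain ⟨j, hj, y, hy, rfl⟩ := hC.decomp hg
    simp [h1 y hy, h3 j hj]
  · obtain ⟨x, hx, j, hj, y, hy, rfl⟩ := hC.bruhat hg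
    simp [h1 y hy, h3 j hj, h1 x hx, h2]

theorem card_mulAut_le (hS : Syl 2 S ⊤) (sq : ∀ s ∈ S, s * s = 1) {n : ℕ} (hn : ♯S = 2 ^ n) :
    Nat.card (MulAut G) ≤ n * Nat.card G := by
  have : Finite (MulAut G) := Finite.of_injective _ DFunLike.coe_injective
  obtain ⟨m, hm, a, k, f, -⟩ := hC.exists_frame
  have fr : Fr S 𝐍(S) a := ⟨f.a_add, f.a_inj, f.a_mem, fun x hx => f.a_surj x hx (sq x hx),
    fun c hc => ⟨_, (f.k_mem c).1, f.k_conj c hc⟩, fun r hr => by
      obtain ⟨j, hj, y, hy, rfl⟩ := hC.decomp hr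
      obtain ⟨c, hc, rfl⟩ := f.k_surj j hj
      obtain ⟨b, rfl⟩ := f.a_surj y hy (sq y hy)
      refine ⟨c, fun d => ?_⟩
      rw [← f.k_conj c hc, mul_assoc (k c), ← f.a_add, add_comm, f.a_add]; group⟩
  obtain rfl : m = n := Nat.pow_right_injective le_rfl
    ((GaloisField.card 2 m (by omega)).symm.trans (fr.card.trans hn))
  have hι := conj_injective hC
  have cj : ∀ (α : MulAut G) x, α * MulAut.conj x * α⁻¹ = MulAut.conj (α x) := fun α x => by
    ext; simp
  have hN : ∀ α ∈ 𝐍(S.map MulAut.conj), ∀ s ∈ S, α s ∈ S := fun α hα s hs =>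
    (mem_map_iff_mem hι).1 (cj α s ▸ conj_mem_of_norm hα (mem_map_of_mem _ hs))
  have h1 := ((fr.map hι).relIndex_le le_rfl fun α hα => mem_norm_of_conj_mem (by
    rintro _ ⟨x, hx, rfl⟩
    exact cj α x ▸ mem_map_of_mem _ (map_mem_norm (hN α hα) hx))).trans
    (Nat.mul_le_mul_left _ (card_ringEquiv_le 2 m (by omega)))
  have h2 : 𝐂(S.map MulAut.conj) ≤ S.map MulAut.conj := fun α hα =>
    exists_conj_of_fix hC (BSW.comm_of_mul_self sq) fun s hs => hι (by
      rw [← cj, ← mem_centralizer_iff.1 hα _ (mem_map_of_mem _ hs), mul_inv_cancel_right])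
  have h3 := ((hS.map MulAut.conj).frattini (M := ⊤) ⟨le_top, fun α _ => mem_norm_of_conj_mem (by
    rintro _ ⟨x, -, rfl⟩
    exact cj α x ▸ mem_map_of_mem _ (mem_top _))⟩).relIndex_eq
  rw [top_inf_eq, relIndex_top_right, ← relIndex_comap, relIndex_top_right] at h3
  have h4 := Nat.le_of_dvd (by omega) (hC.index_norm ▸ h3 ▸ index_dvd_of_le
    (map_le_iff_le_comap.1 (le_normalizer_map (H := S) MulAut.conj)))
  have h5 := card_le h2
  rw [card_map_of_injective hι] at h1 h5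
  rw [← index_mul_card 𝐍(S.map MulAut.conj), ← card_mul_relIndex (cent_le_norm _), hC.card_eq,
    f.card_K, fr.card]
  exact (Nat.mul_le_mul h4 (Nat.mul_le_mul h5 h1)).trans_eq (by ring)

end aut

end Cfsg.Agent.E8
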