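import Cfsg.Agent.Lib.E8.Rank
import Cfsg.Agent.Lib.E8.Iso
import Cfsg.Agent.Lib.OO.BG1
import Cfsg.Agent.Lib.R1.BS8a

/-!
# Groups in which subgroups of equal order are conjugate: the local analysis at the prime 2
-/

set_option autoImplicit false
set_option linter.unusedSectionVars false

namespace Cfsg.Agent.E8

open Subgroup Cfsg.Agent.Coprime Cfsg.Agent.OO
open scoped Pointwise

universe u

variable {G : Type u} [Group G] [Finite G] {S : Subgroup G} {t : G}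

theorem ti_main (hO : ∀ N : Subgroup G, N.Normal → ¬ 2 ∣ ♯N → N = ⊥) (hS : Syl 2 S ⊤)
    (sq : ∀ s ∈ S, s * s = 1) (ht : t ∈ S) (t1 : t ≠ 1) (hc : 𝐂[t] ≤ 𝐂(S))
    (tr : ∀ s ∈ S, s ≠ 1 → ∃ g ∈ 𝐍(S), g * t * g⁻¹ = s) (hq : ♯S = 4 ∨ ♯S = 8 ∨ ♯S = 32) :
    𝐂(S) ≤ S ∧ (𝐍(S) = ⊤ ∨ ∃ u, BSW.HypC S u) := by
  have hab : Ab S := BSW.comm_of_mul_self sq
  have h1 := (Burnside_normal_complement (hS.mono hab.le_cent le_top) inf_le_left).isProd.sup_eq
  have h2 : 𝐍(S) ≤ 𝐍(Op' 2 𝐂(S)) := le_norm_Opi _ (norm_le_norm_cent S)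
  have h : Hyp (Op' 2 𝐂(S)) S t := ⟨not_dvd_Op' _, hS, sq, (le_norm_self S).trans h2, ht, t1,
    fun s hs s1 => by
      obtain ⟨g, hg, rfl⟩ := tr s hs s1
      rw [h1, cent1_conj, ← conj_eq_of_mem_norm (norm_le_norm_cent S hg)]
      exact conj_mono g hc,
    fun s hs s1 => (tr s hs s1).imp fun _ e => ⟨h2 e.1, e.2⟩⟩
  have h3 : Op' 2 𝐂(S) = ⊥ := by
    rcases or_assoc.2 hq with e | e
    exacts [h.eq_bot hO e, h.eq_bot' hO e (Opi_le _ _)]
  exact ⟨by rw [← h1, h3, bot_sup_eq], h.normal_or h3 (by omega)⟩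

theorem card_two_mul {r : ℕ} (r2 : ¬ 2 ∣ r) (t1 : t ≠ 1) (t2 : t * t = 1) {w : G}
    (hw : orderOf w = r) (h : t * w * t⁻¹ ∈ zpowers w) : ♯(zpowers t ⊔ zpowers w) = 2 * r := by
  have e1 := card_zpowers_two t1 t2
  have e2 : ♯(zpowers w) = r := by rw [Nat.card_zpowers, hw]
  rw [card_sup_of_inf_eq_bot (.inl (zpowers_le.2 (mem_norm_of_conj_le (by
    rwa [conj_zpowers, zpowers_le])))) (disjoint_of_coprime_natCard (by
    rwa [e1, e2, Nat.prime_two.coprime_iff_not_dvd])).eq_bot, e1, e2]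

variable (G) in
/-- subgroups of equal order are conjugate -/
def EC : Prop := ∀ H K : Subgroup G, ♯H = ♯K → ∃ g : G, K = g •ᶜ H

theorem EC.map {Q : Type*} [Group Q] (h : EC G) {f : G →* Q} (hf : Function.Surjective f) :
    EC Q := fun H K e => by
  have : Finite Q := .of_surjective f hf
  obtain ⟨g, hg⟩ := h (H.comap f) (K.comap f) (by
    have h1 := (H.comap f).index_mul_card.trans (K.comap f).index_mul_card.symm
    have h2 := H.index_mul_card.trans K.index_mul_card.symm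
    rw [e, Nat.mul_left_inj (card_pos' K).ne'] at h2
    rwa [index_comap_of_surjective _ hf, index_comap_of_surjective _ hf, h2,
      Nat.mul_right_inj index_ne_zero_of_finite] at h1)
  exact ⟨f g, by rw [← map_comap_eq_self_of_surjective hf K, hg, map_conj,
    map_comap_eq_self_of_surjective hf]⟩

theorem EC.ab (h : EC G) {H K : Subgroup G} (e : ♯H = ♯K) (hH : Ab H) : Ab K := by
  obtain ⟨g, rfl⟩ := h H K e
  exact ab_conj.2 hH

theorem EC.abelem (h : EC G) {p : ℕ} {H K : Subgroup G} (e : ♯H = ♯K)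
    (hH : IsElementaryAbelian p H) : IsElementaryAbelian p K := by
  obtain ⟨g, rfl⟩ := h H K e
  exact abelem_conj.2 hH

theorem EC.pow (h : EC G) {p : ℕ} [hp : Fact p.Prime] {V : Subgroup G} (hV : IsElementaryAbelian p V)
    (e : ♯V = p ^ 2) {q : G} (hq : q ^ p ^ 2 = 1) : q ^ p = 1 := by_contra fun q1 =>
  q1 ((h.abelem (by rw [e, Nat.card_zpowers, orderOf_eq_prime_pow (n := 1) (by rwa [pow_one]) hq])
    hV).2 q (mem_zpowers q))

theorem EC.nsr (h : EC G) {r : ℕ} (hr : r.Prime) (r2 : ¬ 2 ∣ r) (t1 : t ≠ 1) (t2 : t * t = 1)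
    (hd : r ∣ ♯𝐂[t]) {u y : G} (u2 : u * u = 1) (hy : u * y * u⁻¹ = y⁻¹) : ¬ r ∣ orderOf y := by
  rintro ⟨k, hk⟩
  have := Fact.mk hr
  obtain ⟨w, hw⟩ := exists_prime_orderOf_dvd_card' r hd
  have k0 : k ≠ 0 := by rintro rfl; exact (orderOf_pos y).ne' hk
  have h1 : orderOf (y ^ k) = r := by
    rw [orderOf_pow_of_dvd k0 (hk ▸ dvd_mul_left _ _), hk, Nat.mul_div_cancel _ (by omega)]
  have h2 : u * y ^ k * u⁻¹ = (y ^ k)⁻¹ := by rw [← conj_pow, hy, inv_pow]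
  generalize y ^ k = y at h1 h2
  have key : u * y ≠ y * u := fun e => by
    rw [e, mul_inv_cancel_right, eq_inv_iff_mul_eq_one, ← pow_two, ← orderOf_dvd_iff_pow_eq_one,
      h1] at h2
    exact r2 ((Nat.prime_dvd_prime_iff_eq hr Nat.prime_two).1 h2 ▸ dvd_rfl)
  refine key (ab_iff.1 (h.ab ((card_two_mul r2 t1 t2 ((orderOf_coe w).trans hw) ?_).trans
    (card_two_mul r2 (fun e => key (by simp [e])) u2 h1 (h2 ▸ inv_mem (mem_zpowers y))).symm) ?_)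
    _ (mem_sup_left (mem_zpowers u)) _ (mem_sup_right (mem_zpowers y)))
  · rw [← mem_cent1.1 w.2, mul_inv_cancel_right]; exact mem_zpowers _
  · exact ab_sup (ab_of_isCyclic inferInstance) (ab_of_isCyclic inferInstance)
      (by rw [cent_zpowers, zpowers_le, mem_cent1]; exact (mem_cent1.1 w.2).symm)

/-- the set-up of the generic case -/
structure TB (S : Subgroup G) (t : G) : Prop where
  ec : EC G
  h4 : ∀ q : G, q ^ 4 = 1 → q ^ 2 = 1
  syl : Syl 2 S ⊤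
  big : 2 < ♯S
  mem : t ∈ S
  ne : t ≠ 1

namespace TB

variable (h : TB S t)
include h

theorem sq (s : G) (hs : s ∈ S) : s * s = 1 := by
  obtain ⟨k, hk⟩ := h.syl.isPGroup ⟨s, hs⟩
  exact (pow_two s).symm.trans (sq_eq_one_of_pow h.h4 (congrArg Subtype.val hk))

theorem ab : Ab S := BSW.comm_of_mul_self h.sq

theorem of_mem {s : G} (hs : s ∈ S) (s1 : s ≠ 1) : TB S s := ⟨h.ec, h.h4, h.syl, h.big, hs, s1⟩

theorem nsr {r : ℕ} (hr : r.Prime) (r2 : ¬ 2 ∣ r) (hd : r ∣ ♯𝐂[t]) {u y : G} (u2 : u * u = 1)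
    (hy : u * y * u⁻¹ = y⁻¹) : ¬ r ∣ orderOf y := h.ec.nsr hr r2 h.ne (h.sq t h.mem) hd u2 hy

theorem mem_of_cent {u : G} (hu : u ∈ 𝐂[t]) (u2 : u * u = 1) : u ∈ S := by
  refine zpowers_le.1 (h.syl.le_of_norm le_top (abelem_isPGroup (abelem_zpowers (by rwa [pow_two])))
    (.inl (le_norm_of_le_cent (cent_zpowers u ▸ fun s hs => mem_cent1.2 ?_))))
  have s2 := h.sq s hs
  have h1 : IsPiNum {2} (orderOf (u * s)) := fun r hr hd => by_contra fun r2 =>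
    h.nsr hr (fun e => r2 ((Nat.prime_dvd_prime_iff_eq Nat.prime_two hr).1 e).symm)
      (hd.trans (Subgroup.orderOf_dvd_natCard _ (mul_mem hu (cent_le_cent1 h.mem (h.ab.le_cent hs))))) u2
      (by rw [mul_inv_rev, inv_eq_of_mul_eq_one_left s2, ← mul_assoc, u2, one_mul]) hd
  obtain ⟨k, hk⟩ := (isPiNum_singleton_iff Nat.prime_two (orderOf_pos _).ne').1 h1
  have := sq_eq_one_of_pow h.h4 (hk ▸ pow_orderOf_eq_one (u * s))
  rw [pow_two, mul_eq_one_iff_eq_inv, mul_inv_rev, inv_eq_of_mul_eq_one_left s2,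
    inv_eq_of_mul_eq_one_left u2] at this
  exact this.symm

theorem mem_norm {g : G} (hg : g * t * g⁻¹ ∈ S) : g ∈ 𝐍(S) :=
  mem_norm_of_conj_mem fun x hx => (h.of_mem hg (BSW.conj_ne_one h.ne)).mem_of_cent
    (cent1_conj g t ▸ conj_mem_conj (cent_le_cent1 h.mem (h.ab.le_cent hx)))
    (BSW.conj_mul_self (h.sq x hx))

theorem cent_le : 𝐂[t] ≤ 𝐍(S) := fun _ hg => h.mem_norm ((mem_cent1_iff_conj.1 hg).symm ▸ h.mem)

theorem conj {s : G} (s1 : s ≠ 1) (s2 : s * s = 1) : ∃ g, g * t * g⁻¹ = s := by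
  obtain ⟨g, hg⟩ := h.ec _ _ ((card_zpowers_two h.ne (h.sq t h.mem)).trans
    (card_zpowers_two s1 s2).symm)
  exact ⟨g, eq_of_mem_zpowers s2 (hg ▸ conj_mem_conj (mem_zpowers t)) (BSW.conj_ne_one h.ne)⟩

theorem tr (s : G) (hs : s ∈ S) (s1 : s ≠ 1) : ∃ g ∈ 𝐍(S), g * t * g⁻¹ = s :=
  let ⟨g, e⟩ := h.conj s1 (h.sq s hs)
  ⟨g, h.mem_norm (e ▸ hs), e⟩

theorem relIndex_eq : 𝐂[t].relIndex 𝐍(S) = ♯S - 1 := by
  refine Eq.trans ?_ (Set.ncard_sdiff_singleton_of_mem S.one_mem)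
  rw [← ncard_cls]
  congr 1
  refine Set.Subset.antisymm ?_ fun s hs => h.tr s hs.1 hs.2
  rintro _ ⟨x, hx, rfl⟩
  exact ⟨conj_mem_of_norm hx h.mem, BSW.conj_ne_one h.ne⟩

theorem struct : ∃ (n : ℕ) (R : Subgroup G) (a : GaloisField 2 n → G), ♯S = 2 ^ n ∧ R ⊴ 𝐍(S) ∧
    Fr S R a ∧ (𝐂[t] ≤ 𝐂(S) ∧ (n = 2 ∨ n = 3) ∧ R = 𝐍(S) ∨ 𝐂(S).relIndex 𝐂[t] = n ∧
      (n = 3 ∨ n = 5) ∧ ∀ s ∈ S, s ∉ zpowers t → 𝐂[s] ⊓ 𝐂[t] ≤ 𝐂(S)) := by
  obtain ⟨R, h1, h2, h3, h4, m, h5, h6⟩ := exists_reg h.syl h.sq h.mem h.ne h.big h.tr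
    fun U hU V hV e e' => by
      obtain ⟨g, rfl⟩ := h.ec U V (e.trans e'.symm)
      obtain ⟨x, hx, x1⟩ := (U.bot_or_exists_ne_one).resolve_left (by rintro rfl; simp at e)
      exact ⟨g, (h.of_mem (hU hx) x1).mem_norm (hV (conj_mem_conj hx)), rfl⟩
  obtain ⟨n, hn⟩ := IsPGroup.iff_card.1 h.syl.isPGroup
  obtain ⟨a, fr⟩ := exists_fr hn h.ab h2.le h3 h.mem h.ne h4
  refine ⟨n, R, a, hn, h2, fr, ?_⟩
  have t2 := h.sq t h.mem
  have big := h.big
  have n1 : 1 < n := (Nat.pow_lt_pow_iff_right one_lt_two).1 (by omega)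
  rw [inf_eq_right.2 h.cent_le] at h6
  have e1 := relIndex_mul_relIndex _ _ _ (cent_le_cent1 h.mem) h.cent_le
  have e2 := (fr.relIndex_le le_rfl h2.2).trans (Nat.mul_le_mul_left _ (card_ringEquiv_le 2 n (by omega)))
  rw [← e1, h.relIndex_eq, mul_comm, Nat.mul_le_mul_left_iff (by omega)] at e2
  have e3 : ¬ 2 ∣ 𝐂(S).relIndex 𝐂[t] := fun e =>
    (h.syl.mono (cent_le_cent1 h.mem |> h.ab.le_cent.trans) le_top).not_dvd
      (e.trans (relIndex_dvd_of_le_left _ h.ab.le_cent))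
  have e4 : ∀ s ∈ S, s ∉ zpowers t → 𝐂(S).relIndex (𝐂[s] ⊓ 𝐂[t]) * m = 𝐂(S).relIndex 𝐂[t] :=
    fun s hs hs' => by
      rw [← h6 s hs hs', ← inf_relIndex_right 𝐂[s]]
      exact relIndex_mul_relIndex _ _ _ (le_inf (cent_le_cent1 hs) (cent_le_cent1 h.mem)) inf_le_right
  have c2 := card_zpowers_two h.ne t2
  have e5 : m ∣ ♯S - 2 := by
    rw [show ♯S - 2 = ((S : Set G) \ zpowers t).ncard by
      rw [Set.ncard_sdiff (zpowers_le.2 h.mem), ← c2]; rfl]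
    refine dvd_ncard_conj (P := 𝐂[t]) (fun x hx a ha => ⟨conj_mem_of_norm (h.cent_le hx) ha.1,
      fun e => ha.2 ?_⟩) fun a ha => (h6 a ha.1 ha.2).symm.dvd
    rwa [← mem_cent1_iff_conj.1 hx, ← conj_zpowers, SetLike.mem_coe, conj_mem_conj_iff] at e
  obtain ⟨z, hz, hz'⟩ : ∃ s ∈ S, s ∉ zpowers t := SetLike.not_le_iff_exists.1 fun e => by
    have := card_le e; omega
  have e6 := Dvd.intro_left _ (e4 z hz hz')
  have e7 := Nat.le_of_dvd (relIndex_pos _ _) e6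
  have e8 : ¬ 2 ∣ m := fun e => e3 (e.trans e6)
  have n5 : n < 6 := by
    by_contra n6
    have : ∀ k, 6 ≤ k → 6 * k + 2 < 2 ^ k := fun k hk => by
      induction k, hk using Nat.le_induction with
      | base => norm_num
      | succ k _ ih => rw [pow_succ]; omega
    have := this n (by omega)
    omega
  by_cases m1 : m = 1
  · have hc : 𝐂[t] ≤ 𝐂(S) := le_cent_comm.1 fun s hs => by
      by_cases hs' : s ∈ zpowers t
      · exact le_cent1_iff.1 (cent1_le_of_mem_zpowers hs')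
      · exact le_cent1_iff.1 (relIndex_eq_one.1 ((h6 s hs hs').trans m1))
    refine .inl ⟨hc, ?_, h2.le.antisymm fun g hg => ?_⟩
    · interval_cases n <;> omega
    · obtain ⟨r, hr, e⟩ := h4 _ (conj_mem_of_norm hg h.mem) (BSW.conj_ne_one h.ne)
      have := mul_mem hr (h1 (hc (mem_cent1_iff_conj.2 (show r⁻¹ * g * t * (r⁻¹ * g)⁻¹ = t by
        calc _ = r⁻¹ * (g * t * g⁻¹) * r := by group
          _ = t := by rw [← e]; group))))
      simpa using this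
  · have : 𝐂(S).relIndex 𝐂[t] = n ∧ m = n ∧ (n = 3 ∨ n = 5) := by
      rw [hn] at e5 h5
      have : m ≤ n := e7.trans e2
      interval_cases n <;> interval_cases m <;> omega
    refine .inr ⟨this.1, this.2.2, fun s hs hs' => relIndex_eq_one.1 ?_⟩
    have e := e4 s hs hs'
    rwa [this.1, this.2.1, mul_left_eq_self₀, or_iff_left (by omega)] at e

end TB

end Cfsg.Agent.E8
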