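import Cfsg.Agent.Lib.E8.EC
import Cfsg.Agent.Lib.OO.BG4
import Cfsg.Agent.Lib.BSW.Ind
import Cfsg.Agent.Lib.BSW.Main
import Cfsg.Agent.Lib.R1.ZStar

/-!
# Groups in which subgroups of equal order are conjugate: the case of 2-rank at least two
-/

set_option autoImplicit false
set_option linter.unusedSectionVars false

namespace Cfsg.Agent.E8

open Subgroup Cfsg.Agent.Coprime Cfsg.Agent.OO
open scoped Pointwise MatrixGroups

universe u

variable {G : Type u} [Group G] [Finite G] {S : Subgroup G} {t : G}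

theorem pow_eq_one_of_pow {p : ℕ} (h : ∀ q : G, q ^ p ^ 2 = 1 → q ^ p = 1) {q : G} {k : ℕ}
    (hk : q ^ p ^ k = 1) : q ^ p = 1 := by
  induction k generalizing q with
  | zero => rw [(pow_one q).symm.trans (by simpa using hk), one_pow]
  | succ k ih =>
    exact h q (by rw [← ih (q := q ^ p) (by rwa [← pow_mul, ← pow_succ']), ← pow_mul, pow_two])

theorem odd_core_sub (hO : ∀ N : Subgroup G, N.Normal → ¬ 2 ∣ ♯N → N = ⊥) (N : Subgroup G)
    [N.Normal] (K : Subgroup N) (hK : K.Normal) (h : ¬ 2 ∣ ♯K) : K = ⊥ := by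
  have h1 : K.map N.subtype ≤ Op' 2 N := le_Opi (normalIn_map_subtype K)
    ((piGrp_compl_singleton Nat.prime_two).2 (by rwa [card_map_of_injective N.subtype_injective]))
  rw [hO (Op' 2 N) (normalizer_eq_top_iff.1 (top_le_iff.1
    (le_norm_Opi _ le_normalizer_of_normal))) (not_dvd_Op' N)] at h1
  exact (Subgroup.map_eq_bot_iff_of_injective _ N.subtype_injective).1 (le_bot_iff.1 h1)

theorem hypC_main {u : G} (hC : BSW.HypC S u) (sq : ∀ s ∈ S, s * s = 1) {n : ℕ} (hn : ♯S = 2 ^ n) :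
    Nat.card G = (2 ^ n - 1) * 2 ^ n * (1 + 2 ^ n) ∧ Nonempty (G ≃* PSL(2, GaloisField 2 n)) := by
  obtain ⟨m, -, h1, h2, h3⟩ := hC.main fun x hx j hj =>
    ab_iff.1 (BSW.comm_of_mul_self sq) x hx _ (hC.K_conj_mem hj hx)
  obtain rfl : m = n := Nat.pow_right_injective le_rfl (h1.symm.trans hn)
  exact ⟨by rw [hC.card_eq, h1, h2], h3⟩

namespace TB

variable (h : TB S t)
include h

theorem cent_of_norm {r : ℕ} [hr : Fact r.Prime] (r2 : ¬ 2 ∣ r) (hd : r ∣ ♯𝐂[t]) {Q : Subgroup G}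
    (hQ : IsPGroup r Q) {u : G} (u2 : u * u = 1) (hu : u ∈ 𝐍(Q)) : u ∈ 𝐂(Q) :=
  mem_centralizer_iff.2 fun x hx => by
    have h1 := h.nsr hr.out r2 hd u2 (y := x⁻¹ * (u * x * u⁻¹)) (by
      rw [inv_eq_of_mul_eq_one_left u2, mul_inv_rev, mul_inv_rev, mul_inv_rev,
        inv_eq_of_mul_eq_one_left u2]
      simp [mul_assoc, u2])
    obtain ⟨k, hk⟩ := IsPGroup.iff_orderOf.1 hQ ⟨_, mul_mem (inv_mem hx) (conj_mem_of_norm hu hx)⟩
    rw [orderOf_mk] at hk
    rcases k with _ | k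
    · rw [pow_zero, orderOf_eq_one_iff, inv_mul_eq_one, eq_mul_inv_iff_mul_eq] at hk
      exact hk
    · exact (h1 (hk ▸ dvd_pow_self r k.succ_ne_zero)).elim

theorem isCyclic {r : ℕ} [hr : Fact r.Prime] (r2 : ¬ 2 ∣ r) (he : 𝐂(S).relIndex 𝐂[t] = r)
    (hm : ∀ s ∈ S, s ∉ zpowers t → 𝐂[s] ⊓ 𝐂[t] ≤ 𝐂(S)) {P : Subgroup G} (hP : IsPGroup r P) :
    IsCyclic P := by
  by_contra hc
  obtain ⟨V, hV, -⟩ := odd_normal_p2Elem_exists hP (by
    obtain ⟨k, hk⟩ := IsPGroup.iff_card.1 hP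
    exact hk ▸ (Nat.not_even_iff_odd.1 (mt even_iff_two_dvd.1 r2)).pow) hc
  obtain ⟨Q, hQ⟩ := exists_syl r 𝐂[t]
  obtain ⟨y, hy, hy'⟩ : ∃ y ∈ Q, y ∉ 𝐂(S) := SetLike.not_le_iff_exists.1 fun e =>
    hQ.not_dvd (he ▸ relIndex_dvd_of_le_left _ e)
  obtain ⟨k, hk⟩ := hQ.isPGroup ⟨y, hy⟩
  have y1 : orderOf y = r := orderOf_eq_prime (pow_eq_one_of_pow (fun _ => h.ec.pow hV.abelem hV.card)
    (congrArg Subtype.val hk)) fun e => hy' (e ▸ one_mem _)
  have t2 := h.sq t h.mem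
  obtain ⟨n, hn⟩ := IsPGroup.iff_card.1 h.syl.isPGroup
  have hs : ∀ y ∈ 𝐍(S), orderOf y = r → ♯(S ⊔ zpowers y) = ♯S * r := fun y hy e => by
    rw [card_sup_of_inf_eq_bot (.inr (zpowers_le.2 hy)) (inf_eq_bot_of_coprime_card (by
      rw [Nat.card_zpowers, e, hn]
      exact (Nat.prime_two.coprime_iff_not_dvd.2 r2).pow_left n)), Nat.card_zpowers, e]
  have e1 := card_mul_relIndex (cent_le_cent1 h.mem)
  by_cases hd : r ∣ ♯𝐂(S)
  · obtain ⟨w, hw, w1⟩ := cauchy hr.out hd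
    have := h.ec.ab ((hs w (cent_le_norm S hw) w1).trans (hs y (h.cent_le (hQ.le hy)) y1).symm)
      (ab_sup h.ab (ab_of_isCyclic inferInstance) (le_cent_comm.1 (zpowers_le.2 hw)))
    exact hy' (cent_anti le_sup_left (this.le_cent (mem_sup_right (mem_zpowers y))))
  have hT : Syl 2 (zpowers t) 𝐂[y] := syl_of_max (zpowers_le.2 (mem_cent1.2 (mem_cent1.1 (hQ.le hy)).symm))
    (abelem_isPGroup (abelem_zpowers (by rwa [pow_two]))) fun U h1 h2 h3 => by
      have sq : ∀ u ∈ U, u * u = 1 := fun u hu => by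
        obtain ⟨k, hk⟩ := h3 ⟨u, hu⟩
        exact (pow_two u).symm.trans (sq_eq_one_of_pow h.h4 (congrArg Subtype.val hk))
      refine le_antisymm (fun u hu => by_contra fun e => hy' (hm u (h.mem_of_cent (cent_le_cent1
        (h1 (mem_zpowers t)) (Ab.le_cent (BSW.comm_of_mul_self sq) hu)) (sq u hu)) e
        ⟨mem_cent1.2 (mem_cent1.1 (h2 hu)).symm, hQ.le hy⟩)) h1
  have hK := cyclic_pdiv_normal_complement hT inferInstance fun q hq _ => hq.two_le
  have c2 := card_zpowers_two h.ne t2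
  obtain ⟨T, hT', hn'⟩ := exists_invariant_sylow r (hK.right_le.trans hK.normal.2)
    (by rw [c2]; exact Nat.prime_two.coprime_iff_not_dvd.2 (not_dvd_Op' _))
    (.inl hT.sol)
  have h1 : T ≤ 𝐂[t] := le_cent1_iff.2 (h.cent_of_norm r2 (e1 ▸ he ▸ dvd_mul_left _ _) hT'.isPGroup t2
    (hn' (mem_zpowers t)))
  obtain ⟨v, hv, v1⟩ := cauchy hr.out (hV.card ▸ dvd_pow_self r two_ne_zero)
  obtain ⟨g, hg⟩ := h.ec (zpowers v) (zpowers y) (by rw [Nat.card_zpowers, Nat.card_zpowers, v1, y1])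
  have h2 : g •ᶜ V ≤ 𝐂[y] := by
    rw [← cent_zpowers, hg, cent_conj]
    exact conj_mono g (hV.le_cent.trans (cent_anti (zpowers_le.2 hv)))
  have h3 : g •ᶜ V ≤ Op' 2 𝐂[y] := le_of_coprime_relIndex h2 hK.normal.2 (by
    rw [hK.relIndex_left, c2, card_conj, hV.card]
    exact (Nat.prime_two.coprime_iff_not_dvd.2 r2).symm.pow_left 2)
  have h4 := (hT'.card_dvd h3 (hV.conj g).isPGroup).trans (card_dvd h1)
  rw [card_conj, hV.card, ← e1, he, pow_two, Nat.mul_dvd_mul_iff_right hr.out.pos] at h4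
  exact hd h4

theorem norm_le_cent {r : ℕ} [hr : Fact r.Prime] (h35 : r = 3 ∨ r = 5) (hd : r ∣ ♯𝐂[t])
    {P : Subgroup G} (hP : Syl r P ⊤) (hc : IsCyclic P) : 𝐍(P) ≤ 𝐂(P) := by
  have key := card_dvd_of_injective _ (QuotientGroup.kerLift_injective P.normalizerMonoidHom)
  obtain ⟨k, hk⟩ := IsPGroup.iff_card.1 hP.isPGroup
  rw [normalizerMonoidHom_ker, ← index, ← relIndex, IsCyclic.card_mulAut, hk] at key
  refine relIndex_eq_one.1 (Nat.eq_one_iff_not_exists_prime_dvd.2 fun q hq e => ?_)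
  have h1 : q ≠ r := by
    rintro rfl
    exact (hP.mono (le_norm_self P) le_top).not_dvd
      (e.trans (relIndex_dvd_of_le_left _ (ab_of_isCyclic hc).le_cent))
  have h2 : q ∣ r - 1 := by
    rcases k with _ | k
    · exact (e.trans key).trans (by simp)
    · rw [Nat.totient_prime_pow_succ hr.out] at key
      exact ((Nat.Prime.dvd_mul hq).1 (e.trans key)).resolve_left fun e =>
        h1 ((Nat.prime_dvd_prime_iff_eq hq hr.out).1 (hq.dvd_of_dvd_pow e))
  obtain rfl : q = 2 := (Nat.prime_dvd_prime_iff_eq hq Nat.prime_two).1 (hq.dvd_of_dvd_pow (n := 2)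
    (h2.trans (by rcases h35 with rfl | rfl <;> norm_num)))
  obtain ⟨Q, hQ⟩ := exists_syl 2 𝐍(P)
  refine hQ.not_dvd (e.trans (relIndex_dvd_of_le_left _ fun u hu => ?_))
  obtain ⟨j, hj⟩ := hQ.isPGroup ⟨u, hu⟩
  exact h.cent_of_norm (by omega) hd hP.isPGroup
    ((pow_two u).symm.trans (sq_eq_one_of_pow h.h4 (congrArg Subtype.val hj))) (hQ.le hu)

theorem aut_case (hO : ∀ N : Subgroup G, N.Normal → ¬ 2 ∣ ♯N → N = ⊥) {n : ℕ} (hn : ♯S = 2 ^ n)
    (he : 𝐂(S).relIndex 𝐂[t] = n) (h35 : n = 3 ∨ n = 5)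
    (hm : ∀ s ∈ S, s ∉ zpowers t → 𝐂[s] ⊓ 𝐂[t] ≤ 𝐂(S)) (hN : 𝐍(S) ≠ ⊤) :
    Nonempty (G ≃* MulAut PSL(2, GaloisField 2 5)) := by
  have hr : Fact n.Prime := ⟨by rcases h35 with rfl | rfl <;> norm_num⟩
  obtain ⟨P, hP⟩ := exists_syl n (⊤ : Subgroup G)
  have hd : n ∣ ♯𝐂[t] := he ▸ relIndex_dvd_card _ _
  have hK := Burnside_normal_complement hP (inf_le_right.trans (h.norm_le_cent h35 hd hP
    (h.isCyclic (by omega) he hm hP.isPGroup)))
  have hK' := not_dvd_Op' (p := n) (⊤ : Subgroup G)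
  generalize Op' n (⊤ : Subgroup G) = N at hK hK'
  have : N.Normal := normalizer_eq_top_iff.1 (top_le_iff.1 hK.normal.2)
  obtain ⟨k, hk⟩ := IsPGroup.iff_card.1 hP.isPGroup
  have hi : N.index = n ^ k := by rw [← relIndex_top_right, hK.relIndex_left, hk]
  have hSN : S ≤ N := le_of_coprime_relIndex le_top hK.normal.2 (by
    rw [relIndex_top_right, hi, hn]
    exact Nat.Coprime.pow _ _ (by rcases h35 with rfl | rfl <;> norm_num))
  have c : ♯(S.subgroupOf N) = 2 ^ n := (Nat.card_congr (subgroupOfEquivOfLe hSN).toEquiv).trans hn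
  have hS : Syl 2 (S.subgroupOf N) ⊤ := ⟨le_top, h.syl.isPGroup.comap_subtype, by
    rw [relIndex_top_right]; exact (h.syl.mono hSN le_top).not_dvd⟩
  have sq : ∀ s ∈ S.subgroupOf N, s * s = 1 := fun s hs => Subtype.ext (h.sq s hs)
  have pr : IsProd (N ⊓ 𝐍(S)) 𝐂[t] 𝐍(S) := .of_coprime_relIndex inf_le_right h.cent_le (by
    rw [inf_relIndex_right, h.relIndex_eq, hn]
    refine Nat.Coprime.coprime_dvd_left (relIndex_dvd_index_of_normal _ _) (hi ▸ .pow_left _ ?_)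
    rcases h35 with rfl | rfl <;> norm_num)
  refine ((ti_main (t := ⟨t, hSN h.mem⟩) (odd_core_sub hO N) hS sq h.mem
    (fun e => h.ne (congrArg Subtype.val e)) (fun x hx => ?_) (fun s hs s1 => ?_)
    (by rcases h35 with rfl | rfl <;> omega)).2.resolve_left fun e => hN (top_le_iff.1 ?_)).elim
    fun u hC => ?_
  rotate_right
  · obtain ⟨h1, ⟨e⟩⟩ := hypC_main hC sq c
    obtain rfl : n = 5 := h35.resolve_left (by rintro rfl; exact hK' (h1 ▸ by norm_num))
    have : Finite (MulAut N) := Finite.of_injective _ DFunLike.coe_injective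
    have inj : Function.Injective (MulAut.conjNormal : G →* MulAut N) := by
      refine (MonoidHom.ker_eq_bot_iff _).1 (hO _ inferInstance fun e => ?_)
      obtain ⟨x, hx, x1, x2⟩ := R1.exists_invol_mem e
      obtain ⟨g, rfl⟩ := h.conj x1 x2
      have := conj_injective hC (a₁ := ⟨_, ‹N.Normal›.conj_mem _ (hSN h.mem) g⟩) (a₂ := 1)
        (by rw [map_one, ← hx]; ext; rfl)
      exact x1 (congrArg Subtype.val this)
    refine ⟨(MulEquiv.ofBijective _ ((Nat.bijective_iff_injective_and_card _).2 ⟨inj, le_antisymm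
      (Nat.card_le_card_of_injective _ inj) ((card_mulAut_le hC hS sq c).trans ?_)⟩)).trans
      (MulAut.congr e)⟩
    rw [← N.index_mul_card, hi]
    refine Nat.mul_le_mul_right _ (Nat.le_self_pow ?_ _)
    rintro rfl
    exact hK' (hd.trans (card_dvd (le_top.trans (index_eq_one.1 hi).ge)))
  · have hx' : (x : G) ∈ 𝐂[t] := mem_cent1.2 (congrArg Subtype.val (mem_cent1.1 hx))
    have := le_of_coprime_relIndex (zpowers_le.2 hx') (h.cent_le.trans (norm_le_norm_cent S)) (by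
      rw [he]
      exact (hr.out.coprime_iff_not_dvd.2 fun e => hK' (e.trans (card_dvd (zpowers_le.2 x.2)))).symm)
      (mem_zpowers _)
    exact mem_centralizer_iff.2 fun s hs => Subtype.ext (mem_centralizer_iff.1 this s hs)
  · obtain ⟨g, hg, e⟩ := h.tr s hs fun e => s1 (Subtype.ext e)
    obtain ⟨a, ha, c, hc, rfl⟩ := pr.mem_iff.1 hg
    refine ⟨⟨a, ha.1⟩, mem_norm_of_conj_mem fun y hy =>
      (conj_mem_of_norm (g := a) ha.2 hy :), Subtype.ext ?_⟩
    rw [← e, mul_assoc a c, mem_cent1.1 hc]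
    simp [mul_assoc]
  · refine le_normalizer_of_normal.trans ((h.syl.mono hSN le_top).norm_le_norm_of_normal fun x hx =>
      mem_norm_of_conj_mem fun s hs => ?_)
    exact conj_mem_of_norm (g := (⟨x, hx⟩ : N)) (x := ⟨s, hSN hs⟩) (e ▸ mem_top _) hs

theorem main (hO : ∀ N : Subgroup G, N.Normal → ¬ 2 ∣ ♯N → N = ⊥) :
    ♯S = 4 ∧ (Nonempty (G ≃* alternatingGroup (Fin 4)) ∨ Nonempty (G ≃* alternatingGroup (Fin 5))) ∨
    4 < ♯S ∧ (Nonempty (G ≃* affineGroup (GaloisField 2 3)) ∨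
      Nonempty (G ≃* semiaffineGroup (GaloisField 2 3)) ∨
      Nonempty (G ≃* semiaffineGroup (GaloisField 2 5)) ∨
      Nonempty (G ≃* PSL(2, GaloisField 2 3)) ∨ Nonempty (G ≃* MulAut PSL(2, GaloisField 2 5))) := by
  obtain ⟨n, R, a, hn, hR, fr, hc⟩ := h.struct
  have cop : (♯S).Coprime S.index := relIndex_top_right S ▸ h.syl.hall.coprime
  rcases hc with ⟨hc, h23, rfl⟩ | ⟨he, h35, hm⟩
  · obtain ⟨hC, e | ⟨u, hu⟩⟩ := ti_main hO h.syl h.sq h.mem h.ne hc h.tr
      (by rcases h23 with rfl | rfl <;> omega)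
    · have := normalizer_eq_top_iff.1 e
      rcases h23 with rfl | rfl
      · have h1 := h.relIndex_eq
        rw [e, (hc.trans hC).antisymm (h.ab.le_cent.trans (cent_le_cent1 h.mem)), relIndex_top_right] at h1
        have h2 := S.index_mul_card
        rw [h1, hn] at h2
        obtain ⟨y, hy⟩ := exists_prime_orderOf_dvd_card' (G := G) 3 (by omega)
        rw [← Nat.card_zpowers] at hy
        exact .inl ⟨hn, .inl (Transfer.nonempty_mulEquiv_alternating_four h2.symm hy fun e => by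
          simp [hO _ e (by omega)] at hy)⟩
      · exact .inr ⟨by omega, .inl (fr.equiv_affine e hC cop)⟩
    · obtain ⟨h1, h2⟩ := hypC_main hu h.sq hn
      rcases h23 with rfl | rfl
      · have h3 : 𝐍(S).normalCore = ⊥ := (hu.isSimpleGroup.eq_bot_or_eq_top_of_normal _
          inferInstance).resolve_right fun e => hu.t_not_mem (normalCore_le _ (e ▸ mem_top u))
        obtain ⟨g, g1, g2⟩ := exists_hom_alt (n := 5) 𝐍(S) (hu.index_norm.trans (by omega))
          (by rw [h1, h3, card_bot]; rfl)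
        exact .inl ⟨hn, .inr ⟨MulEquiv.ofBijective g ⟨(MonoidHom.ker_eq_bot_iff _).1 (g2.trans h3), g1⟩⟩⟩
      · exact .inr ⟨by omega, .inr (.inr (.inr (.inl h2)))⟩
  refine .inr ⟨by rcases h35 with rfl | rfl <;> omega, .inr ?_⟩
  by_cases e : 𝐍(S) = ⊤
  · have := normalizer_eq_top_iff.1 e
    have : R.Normal := normalizer_eq_top_iff.1 (top_le_iff.1 (e ▸ hR.2))
    have h1 := (Burnside_normal_complement (h.syl.mono h.ab.le_cent le_top) inf_le_left).isProd.sup_eq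
    rw [hO _ (normalizer_eq_top_iff.1 (top_le_iff.1 (e ▸ le_norm_Opi _ (norm_le_norm_cent S))))
      (not_dvd_Op' _), bot_sup_eq] at h1
    have h2 := relIndex_mul_relIndex _ _ _ (cent_le_cent1 h.mem) h.cent_le
    rw [he, h.relIndex_eq, e, relIndex_top_right, ← h1, mul_comm] at h2
    have := fr.equiv_semi h1.ge cop (h2 ▸ Nat.mul_le_mul_left _ (card_ringEquiv_le 2 n (by omega)))
    rcases h35 with rfl | rfl
    exacts [.inl this, .inr (.inl this)]
  · exact .inr (.inr (.inr (h.aut_case hO hn he h35 hm e)))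

end TB

end Cfsg.Agent.E8
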