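import Cfsg.Prelude.Def_Perm
import Cfsg.Agent.Lib.OO.BasicH

/-!
# An abelian group of automorphisms transitive on the nonidentity elements: field coordinates
-/

set_option autoImplicit false
set_option linter.unusedSectionVars false

namespace Cfsg.Agent.E8

open Subgroup Cfsg.Agent.Coprime Cfsg.Agent.OO
open scoped Pointwise IsMulCommutative

universe u

variable {G : Type u} [Group G] [Finite G] {S R M : Subgroup G}

/-- `S` is the additive group of `F`, and `R` induces the multiplications -/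
structure Fr (S R : Subgroup G) {F : Type*} [Field F] (a : F → G) : Prop where
  add : ∀ c d, a (c + d) = a c * a d
  inj : Function.Injective a
  mem : ∀ c, a c ∈ S
  surj : ∀ x ∈ S, ∃ c, a c = x
  ex : ∀ c, c ≠ 0 → ∃ r ∈ R, ∀ d, r * a d * r⁻¹ = a (c * d)
  all : ∀ r ∈ R, ∃ c, ∀ d, r * a d * r⁻¹ = a (c * d)

theorem exists_fr_aux (hS : Ab S) (hR : R ≤ 𝐍(S)) (hc : ⁅R, R⁆ ≤ 𝐂(S)) {t : G} (ht : t ∈ S)
    (t1 : t ≠ 1) (tr : ∀ s ∈ S, s ≠ 1 → ∃ r ∈ R, r * t * r⁻¹ = s) :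
    ∃ (F : Type u) (_ : Field F) (a : F → G), Fr S R a := by
  let cj : R → AddMonoid.End (Additive S) := fun r =>
    (S.normalizerMonoidHom ⟨r, hR r.2⟩).toMonoidHom.toAdditive
  have cv : ∀ r x, ((cj r x).toMul : G) = r * x.toMul * (r : G)⁻¹ := fun _ _ => rfl
  have ext : ∀ {x y : Additive S}, (x.toMul : G) = y.toMul → x = y := fun e =>
    Additive.toMul.injective (Subtype.ext e)
  let A := Subring.centralizer (Set.range cj)
  let t0 : Additive S := Additive.ofMul ⟨t, ht⟩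
  have hA : ∀ r, cj r ∈ A := by
    rintro r _ ⟨r', rfl⟩
    refine AddMonoidHom.ext fun x => ext ?_
    have := mem_centralizer_iff.1 (hc (commutator_mem_commutator (inv_mem r.2) (inv_mem r'.2))) _ x.toMul.2
    change (r' : G) * (r * x.toMul * (r : G)⁻¹) * (r' : G)⁻¹ = r * (r' * x.toMul * (r' : G)⁻¹) * (r : G)⁻¹
    rw [commutatorElement_def] at this
    generalize (x.toMul : G) = x, (r : G) = r, (r' : G) = r' at this
    calc _ = r' * r * (x * (r⁻¹ * r'⁻¹ * r⁻¹⁻¹ * r'⁻¹⁻¹)) * r'⁻¹ * r⁻¹ := by simp [mul_assoc]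
      _ = _ := by rw [this]; simp [mul_assoc]
  have cases' : ∀ x : Additive S, x = 0 ∨ ∃ r, cj r t0 = x := fun x => by
    refine or_iff_not_imp_left.2 fun x0 => ?_
    obtain ⟨r, hr, e⟩ := tr _ x.toMul.2 fun e => x0 (ext e)
    exact ⟨⟨r, hr⟩, ext e⟩
  have inj : ∀ f g : A, f.1 t0 = g.1 t0 → f = g := fun f g e =>
    Subtype.ext (AddMonoidHom.ext fun x => by
      rcases cases' x with rfl | ⟨r, rfl⟩
      · exact (map_zero f.1).trans (map_zero g.1).symm
      · exact (DFunLike.congr_fun (f.2 _ ⟨r, rfl⟩) t0).symm.trans ((congrArg (cj r) e).trans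
          (DFunLike.congr_fun (g.2 _ ⟨r, rfl⟩) t0)))
  have cA : ∀ f : A, f = 0 ∨ ∃ r, f = ⟨cj r, hA r⟩ := fun f =>
    (cases' (f.1 t0)).imp (fun e => inj _ _ e) fun ⟨r, e⟩ => ⟨r, inj _ _ e.symm⟩
  have fld : IsField A := ⟨⟨0, 1, fun e => t1 (congrArg (fun f : A => ((f.1 t0).toMul : G)) e).symm⟩,
    fun f g => by
      rcases cA f with rfl | ⟨r, rfl⟩
      · rw [zero_mul, mul_zero]
      · exact Subtype.ext (g.2 _ ⟨r, rfl⟩), fun {f} f0 => by
      obtain ⟨r, rfl⟩ := (cA f).resolve_left f0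
      exact ⟨⟨cj r⁻¹, hA _⟩, inj _ _ (ext (by
        change (r : G) * ((r : G)⁻¹ * t * (r : G)⁻¹⁻¹) * (r : G)⁻¹ = t; group))⟩⟩
  let _ := fld.toField
  refine ⟨A, inferInstance, fun f => (f.1 t0).toMul, fun _ _ => rfl, fun f g e => inj f g (ext e),
    fun f => (f.1 t0).toMul.2, fun x hx => ?_, fun f f0 => ?_, fun r hr => ⟨⟨_, hA ⟨r, hr⟩⟩, fun _ => rfl⟩⟩
  · rcases cases' (Additive.ofMul ⟨x, hx⟩) with e | ⟨r, e⟩
    · exact ⟨0, congrArg (fun y : Additive S => (y.toMul : G)) e.symm⟩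
    · exact ⟨⟨_, hA r⟩, congrArg (fun y : Additive S => (y.toMul : G)) e⟩
  · obtain ⟨r, rfl⟩ := (cA f).resolve_left f0
    exact ⟨r, r.2, fun _ => rfl⟩

namespace Fr

variable {F : Type*} [Field F] {a : F → G} (fr : Fr S R a)
include fr

theorem zero : a 0 = 1 := left_eq_mul.1 (show a 0 = a 0 * a 0 by rw [← fr.add, add_zero])

theorem finite : Finite F := Finite.of_injective a fr.inj

theorem card : Nat.card F = ♯S := Nat.card_eq_of_bijective (fun c => ⟨a c, fr.mem c⟩)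
  ⟨fun _ _ e => fr.inj (congrArg Subtype.val e), fun x => (fr.surj x x.2).imp fun _ => Subtype.ext⟩

theorem comp {E : Type*} [Field E] (e : E ≃+* F) : Fr S R (a ∘ e) where
  add c d := by simp [fr.add]
  inj := fr.inj.comp e.injective
  mem c := fr.mem _
  surj x hx := by
    obtain ⟨c, rfl⟩ := fr.surj x hx
    exact ⟨e.symm c, by simp⟩
  ex c hc := by
    obtain ⟨r, hr, h⟩ := fr.ex (e c) (by simpa using hc)
    exact ⟨r, hr, fun d => by simp [h]⟩
  all r hr := by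
    obtain ⟨c, h⟩ := fr.all r hr
    exact ⟨e.symm c, fun d => by simp [h]⟩

theorem semi {g : G} (h1 : g ∈ 𝐍(S)) (h2 : g ∈ 𝐍(R)) :
    ∃ (u : Fˣ) (σ : F ≃+* F), ∀ x, g * a x * g⁻¹ = a (u * σ x) := by
  have := fr.finite
  choose φ hφ using fun x => fr.surj _ (conj_mem_of_norm h1 (fr.mem x))
  have p0 : φ 0 = 0 := fr.inj (by rw [hφ, fr.zero]; group)
  have p1 : φ 1 ≠ 0 := fun e => one_ne_zero (fr.inj ((MulAut.conj g).injective (by
    simp only [MulAut.conj_apply]; rw [← hφ, ← hφ, e, p0])))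
  have pm : ∀ c d, φ (c * d) * φ 1 = φ c * φ d := fun c d => by
    by_cases c0 : c = 0
    · simp [c0, p0]
    obtain ⟨r, hr, e⟩ := fr.ex c c0
    obtain ⟨c', e'⟩ := fr.all _ (conj_mem_of_norm h2 hr)
    have : ∀ d, φ (c * d) = c' * φ d := fun d => fr.inj (by rw [hφ, ← e', hφ, ← e]; group)
    rw [this, ← mul_one c, this]; ring
  let σ : F →+* F :=
    { toFun := fun x => φ x / φ 1
      map_one' := div_self p1
      map_mul' := fun c d => by field_simp; exact pm c d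
      map_zero' := by rw [p0, zero_div]
      map_add' := fun c d => by
        rw [← add_div]; congr 1
        exact fr.inj (by rw [fr.add, hφ, hφ, hφ, fr.add]; group) }
  exact ⟨Units.mk0 _ p1, RingEquiv.ofBijective σ (Finite.injective_iff_bijective.1 σ.injective),
    fun x => by rw [← hφ]; congr 1; exact (mul_div_cancel₀ _ p1).symm⟩

theorem relIndex_le (h1 : M ≤ 𝐍(S)) (h2 : M ≤ 𝐍(R)) :
    𝐂(S).relIndex M ≤ (♯S - 1) * Nat.card (F ≃+* F) := by
  have := fr.finite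
  have : Finite (F ≃+* F) := Finite.of_injective _ DFunLike.coe_injective
  choose u σ h using fun g : M => fr.semi (h1 g.2) (h2 g.2)
  rw [← fr.card, ← Nat.card_units, ← Nat.card_prod]
  refine Nat.card_le_card_of_injective (fun q : M ⧸ 𝐂(S).subgroupOf M => (u q.out, σ q.out))
    fun p q e => ?_
  rw [← p.out_eq, ← q.out_eq]
  refine QuotientGroup.eq.2 (mem_centralizer_iff.2 fun x hx => ?_)
  obtain ⟨c, rfl⟩ := fr.surj x hx
  have := h q.out c
  simp only [Prod.mk.injEq] at e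
  rw [← e.1, ← e.2, ← h] at this
  calc _ = (p.out : G)⁻¹ * (p.out * a c * (p.out : G)⁻¹) * q.out := by simp [mul_assoc]
    _ = _ := by rw [← this]; simp [mul_assoc]

theorem exists_hom [S.Normal] [R.Normal] (hC : 𝐂(S) ≤ S) (hc : (♯S).Coprime S.index) :
    ∃ ρ : G →* Equiv.Perm F, Function.Injective ρ ∧ affineGroup F ≤ ρ.range ∧
      ρ.range ≤ semiaffineGroup F ∧ (R = ⊤ → ρ.range ≤ affineGroup F) := by
  obtain ⟨E, hE⟩ := exists_right_complement'_of_coprime hc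
  have dec : ∀ g, ∃ b, ∃ e ∈ E, g = a b * e := fun g => by
    obtain ⟨⟨s, e⟩, rfl⟩ := hE.2 g
    obtain ⟨b, hb⟩ := fr.surj s s.2
    exact ⟨b, e, e.2, by rw [hb]⟩
  have dis : ∀ x ∈ S, x ∈ E → x = 1 := fun x => disjoint_def.1 hE.disjoint
  let β : F ≃ G ⧸ E := Equiv.ofBijective (fun x => a x) ⟨fun x y e => fr.inj (inv_mul_eq_one.1
    (dis _ (mul_mem (inv_mem (fr.mem x)) (fr.mem y)) (QuotientGroup.eq.1 e))), fun q => by
      obtain ⟨b, e, he, h⟩ := dec q.out
      exact ⟨b, (QuotientGroup.eq.2 (by simpa [h] using he)).trans q.out_eq⟩⟩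
  let ρ := β.symm.permCongrHom.toMonoidHom.comp (MulAction.toPermHom G (G ⧸ E))
  have key : ∀ b, ∀ e ∈ E, ∀ x y, e * a x * e⁻¹ = a y → ρ (a b * e) x = y + b := fun b e he x y h =>
    β.symm_apply_eq.2 (QuotientGroup.eq (a := a b * e * a x) (b := a (y + b)) |>.2 (by
      rw [add_comm, fr.add, ← h]; simpa [mul_assoc] using he))
  have cm : ∀ b x, a b * a x * (a b)⁻¹ = a x := fun b x => by
    rw [← fr.add, add_comm, fr.add, mul_inv_cancel_right]
  have sh : ∀ b e x y, a b * e * a x * (a b * e)⁻¹ = a y → e * a x * e⁻¹ = a y := fun b e x y h =>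
    (MulAut.conj (a b)).injective (by simp only [MulAut.conj_apply]; rw [cm, ← h]; group)
  have semi := fun g => fr.semi (g := g) (le_normalizer_of_normal (mem_top g))
    (le_normalizer_of_normal (mem_top g))
  refine ⟨ρ, (injective_iff_map_eq_one ρ).2 fun g hg => ?_, ?_, ?_, ?_⟩
  · obtain ⟨b, e, he, rfl⟩ := dec g
    obtain ⟨u, σ, h⟩ := semi e
    have h1 : ∀ x, x = u * σ x + b := fun x => by rw [← key b e he x _ (h x), hg]; rfl
    have h2 : b = 0 := by simpa using (h1 0).symm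
    rw [h2, fr.zero, one_mul]
    refine dis e (hC (mem_centralizer_iff.2 fun x hx => ?_)) he
    obtain ⟨c, rfl⟩ := fr.surj x hx
    rw [eq_comm, ← mul_inv_eq_iff_eq_mul, h, ← add_zero (u * σ c), ← h2, ← h1]
  · rintro π ⟨u, b, h⟩
    obtain ⟨r, -, hr⟩ := fr.ex u u.ne_zero
    obtain ⟨c, e, he, rfl⟩ := dec r
    exact ⟨a b * e, Equiv.ext fun x => by rw [key b e he x _ (sh c e x _ (hr x)), h]⟩
  · rintro _ ⟨g, rfl⟩
    obtain ⟨b, e, he, rfl⟩ := dec g
    obtain ⟨u, σ, h⟩ := semi e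
    exact ⟨u, b, σ, fun x => key b e he x _ (h x)⟩
  · rintro rfl _ ⟨g, rfl⟩
    obtain ⟨b, e, he, rfl⟩ := dec g
    obtain ⟨c, h⟩ := fr.all e (mem_top e)
    refine ⟨Units.mk0 c fun c0 => one_ne_zero (fr.inj ?_), b, fun x => key b e he x _ (h x)⟩
    simpa [c0, fr.zero] using h 1

theorem equiv_affine [S.Normal] (hR : R = ⊤) (hC : 𝐂(S) ≤ S) (hc : (♯S).Coprime S.index) :
    Nonempty (G ≃* affineGroup F) := by
  subst hR
  obtain ⟨ρ, h1, h2, -, h3⟩ := fr.exists_hom hC hc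
  exact ⟨(MonoidHom.ofInjective h1).trans (MulEquiv.subgroupCongr ((h3 rfl).antisymm h2))⟩

theorem equiv_semi [S.Normal] [R.Normal] (hC : 𝐂(S) ≤ S) (hc : (♯S).Coprime S.index)
    (h : (♯S - 1) * Nat.card (F ≃+* F) ≤ S.index) : Nonempty (G ≃* semiaffineGroup F) := by
  have := fr.finite
  have : Finite (F ≃+* F) := Finite.of_injective _ DFunLike.coe_injective
  obtain ⟨ρ, h1, -, h2, -⟩ := fr.exists_hom hC hc
  refine ⟨(MonoidHom.ofInjective h1).trans (MulEquiv.subgroupCongr (eq_of_le_of_card_le h2 ?_))⟩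
  rw [← Nat.card_congr (MonoidHom.ofInjective h1).toEquiv, ← S.card_mul_index]
  refine le_trans ?_ (Nat.mul_le_mul_left _ h)
  choose u b σ e using fun π : semiaffineGroup F => π.2
  rw [← fr.card, ← Nat.card_units, ← Nat.card_prod, ← Nat.card_prod]
  refine Nat.card_le_card_of_injective (fun π => (b π, u π, σ π)) fun π π' e' => ?_
  simp only [Prod.mk.injEq] at e'
  exact Subtype.ext (Equiv.ext fun x => by rw [e, e, e'.1, e'.2.1, e'.2.2])

end Fr

theorem card_ringEquiv_le (p n : ℕ) [Fact p.Prime] (hn : n ≠ 0) :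
    Nat.card (GaloisField p n ≃+* GaloisField p n) ≤ n := by
  refine le_trans (Nat.card_le_card_of_injective (fun e => AlgEquiv.ofRingEquiv (R := ZMod p) (f := e)
    fun x => DFunLike.congr_fun (RingHom.ext_zmod (e.toRingHom.comp (algebraMap _ _)) (algebraMap _ _)) x)
    fun e e' h => RingEquiv.ext fun x => DFunLike.congr_fun h x) ?_
  rw [IsGalois.card_aut_eq_finrank, GaloisField.finrank p hn]

theorem exists_fr {p n : ℕ} [Fact p.Prime] (hn : ♯S = p ^ n) (hS : Ab S) (hR : R ≤ 𝐍(S))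
    (hc : ⁅R, R⁆ ≤ 𝐂(S)) {t : G} (ht : t ∈ S) (t1 : t ≠ 1)
    (tr : ∀ s ∈ S, s ≠ 1 → ∃ r ∈ R, r * t * r⁻¹ = s) : ∃ a : GaloisField p n → G, Fr S R a := by
  obtain ⟨F, _, a, fr⟩ := exists_fr_aux hS hR hc ht t1 tr
  have := fr.finite
  have := Fintype.ofFinite F
  have := Fintype.ofFinite (GaloisField p n)
  refine ⟨_, fr.comp (FiniteField.ringEquivOfCardEq ?_)⟩
  rw [← Nat.card_eq_fintype_card, ← Nat.card_eq_fintype_card, fr.card, hn, GaloisField.card]
  rintro rfl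
  exact t1 (mem_bot.1 (card_eq_one.1 hn ▸ ht))

end Cfsg.Agent.E8
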