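import Cfsg.Agent.Lib.E8.HallNum
import Cfsg.Agent.Lib.Part.Baer

/-!
# Groups whose derived group has a Sylow 2-subgroup of order four; isolated 2-subgroups
-/

set_option autoImplicit false
set_option linter.unusedSectionVars false

namespace Cfsg.Agent.E8

open Subgroup Cfsg.Agent.Coprime Cfsg.Agent.OO
open scoped Pointwise MatrixGroups

universe u

variable {G : Type u} [Group G] [Finite G] {P B : Subgroup G}

theorem normal_of_top_le {N : Subgroup G} (h : ⊤ ≤ 𝐍(N)) : N.Normal :=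
  normalizer_eq_top_iff.1 (top_le_iff.1 h)

theorem four_normal (hO : ∀ N : Subgroup G, N.Normal → ¬ 2 ∣ ♯N → N = ⊥) [B.Normal] (h4 : ♯B = 4)
    (tr : ∀ a ∈ B, a ≠ 1 → ∀ b ∈ B, b ≠ 1 → ∃ g, g * a * g⁻¹ = b) (hC : 𝐂(B) ≤ B) :
    Nonempty (G ≃* alternatingGroup (Fin 4)) ∨ Nonempty (G ≃* Equiv.Perm (Fin 4)) := by
  obtain ⟨t, ht, t1, t2⟩ := R1.exists_invol_mem (H := B) (by omega)
  have sq : ∀ s ∈ B, s * s = 1 := fun s hs => by
    by_cases s1 : s = 1
    · simp [s1]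
    obtain ⟨g, rfl⟩ := tr t ht t1 s hs s1
    exact BSW.conj_mul_self t2
  have hab : Ab B := BSW.comm_of_mul_self sq
  have h3 : ∀ a ∈ B, a ≠ 1 → 𝐂[a].index = 3 := fun a ha a1 => by
    rw [← relIndex_top_right, ← ncard_cls, show 3 = (B : Set G).ncard - 1 from congrArg (· - 1) h4.symm,
      ← Set.ncard_sdiff_singleton_of_mem B.one_mem]
    congr 1
    refine Set.Subset.antisymm ?_ fun s hs => (tr a ha a1 s hs.1 hs.2).imp fun _ e => ⟨mem_top _, e⟩
    rintro _ ⟨x, -, rfl⟩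
    exact ⟨‹B.Normal›.conj_mem _ ha x, BSW.conj_ne_one a1⟩
  have c2 := card_zpowers_two t1 t2
  obtain ⟨s, hs, hs'⟩ : ∃ s ∈ B, s ∉ zpowers t := SetLike.not_le_iff_exists.1 fun e => by
    have := card_le e; omega
  have h5 : 𝐂[s].relIndex 𝐂[t] ≤ 2 := by
    rw [← ncard_cls, show 2 = ((B : Set G) \ zpowers t).ncard by
      rw [Set.ncard_sdiff (zpowers_le.2 ht)]; exact (congrArg₂ (· - ·) h4 c2).symm]
    refine Set.ncard_le_ncard ?_
    rintro _ ⟨x, hx, rfl⟩
    refine ⟨‹B.Normal›.conj_mem _ hs x, fun e => hs' ?_⟩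
    rwa [← mem_cent1_iff_conj.1 hx, ← conj_zpowers, SetLike.mem_coe, conj_mem_conj_iff] at e
  have h6 : 𝐂[s] ⊓ 𝐂[t] = B := by
    refine le_antisymm (le_trans ?_ hC) (hab.le_cent.trans (le_inf (cent_le_cent1 hs) (cent_le_cent1 ht)))
    rw [← eq_of_le_of_card_le (sup_le (zpowers_le.2 ht) (zpowers_le.2 hs))
      (h4.trans (card_four sq ht t1 hs hs').symm).le, cent_sup, cent_zpowers, cent_zpowers, inf_comm]
  have h7 := relIndex_mul_index (inf_le_right : 𝐂[s] ⊓ 𝐂[t] ≤ 𝐂[t])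
  rw [inf_relIndex_right, h6, h3 t ht t1] at h7
  have h8 := B.card_mul_index
  have := relIndex_pos 𝐂[s] 𝐂[t]
  by_cases h9 : B.index = 3
  · obtain ⟨y, hy⟩ := exists_prime_orderOf_dvd_card' (G := G) 3 (by rw [← h8, h9]; simp)
    rw [← Nat.card_zpowers] at hy
    exact .inl (Transfer.nonempty_mulEquiv_alternating_four (by rw [← h8, h4, h9]) hy fun e => by
      simp [hO _ e (by omega)] at hy)
  · refine .inr (Part.perm_four h4 hC (by omega) fun d hd z hz e => by_contra fun z1 => ?_)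
    have h1 := hd ▸ orderOf_dvd_card (mem_cent1.2 e.symm)
    have h2 := 𝐂[z].card_mul_index
    rw [h3 z hz z1, ← h8, h4] at h2
    omega

theorem half_core (gw : R1.GW4.{u}) (hO : ∀ N : Subgroup G, N.Normal → ¬ 2 ∣ ♯N → N = ⊥)
    (hP : Syl 2 P ⊤) (hB : B ≤ P) (h4 : ♯B = 4)
    (tr : ∀ a ∈ B, a ≠ 1 → ∀ b ∈ B, b ≠ 1 → ∃ g, g * a * g⁻¹ = b) (hC : P ⊓ 𝐂(B) ≤ B)
    (hD : P ⊓ der ⊤ ≤ B) :
    Nonempty (G ≃* alternatingGroup (Fin 4)) ∨ Nonempty (G ≃* Equiv.Perm (Fin 4)) ∨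
    ∃ S : Subgroup G, S.Normal ∧ IsSimpleGroup S ∧ ¬ IsMulCommutative S ∧ 𝐂(S) = ⊥ ∧
      ∃ (F : Type) (_ : Field F) (_ : Fintype F), 3 < Fintype.card F ∧
        (Fintype.card F % 8 = 3 ∨ Fintype.card F % 8 = 5) ∧ Nonempty (S ≃* PSL(2, F)) := by
  have op : ∀ N : Subgroup G, ⊤ ≤ 𝐍(N) → Op' 2 N = ⊥ := fun N h =>
    hO _ (normal_of_top_le (le_norm_Opi _ h)) (not_dvd_Op' N)
  obtain ⟨t, ht, t1, t2⟩ := R1.exists_invol_mem (H := B) (by omega)
  have hab : Ab B := BSW.comm_of_mul_self fun s hs => by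
    by_cases s1 : s = 1
    · simp [s1]
    obtain ⟨g, rfl⟩ := tr t ht t1 s hs s1
    exact BSW.conj_mul_self t2
  obtain ⟨L, hL, hL'⟩ := exists_minNormalBy (H := der ⊤) (M := ⊤) (fun e => by
    have c2 := card_zpowers_two t1 t2
    obtain ⟨s, hs, hs'⟩ : ∃ s ∈ B, s ∉ zpowers t := SetLike.not_le_iff_exists.1 fun e => by
      have := card_le e; omega
    obtain ⟨g, rfl⟩ := tr t ht t1 s hs fun e => hs' (e ▸ one_mem _)
    rw [ab_iff.1 (ab_iff_der.2 e) g (mem_top g) t (mem_top t), mul_inv_cancel_right] at hs'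
    exact hs' (mem_zpowers t)) (der_normal ⊤).2
  have := normal_of_top_le hL.2.1
  have h1 := hP.inf_normal ⟨le_top, hL.2.1⟩
  have h2 : P ⊓ L ≤ B := (inf_le_inf_left P hL').trans hD
  have h3 : B ≤ L := by
    obtain ⟨a, ha, a1⟩ := exists_mem_ne_one (h1.ne_bot (by_contra fun e => hL.1 (hO L this e)))
    intro b hb
    by_cases b1 : b = 1
    · rw [b1]; exact one_mem L
    obtain ⟨g, rfl⟩ := tr a (h2 ha) a1 b hb b1
    exact this.conj_mem _ ha.2 g
  rw [h2.antisymm (le_inf hB h3)] at h1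
  have b0 : B ≠ ⊥ := by rintro rfl; simp at h4
  by_cases hN : L ≤ 𝐍(B)
  · have h5 := hL.2.1.trans (h1.norm_le_norm_of_normal hN)
    have := normal_of_top_le h5
    have h6 := hP.inf_normal ⟨le_top, h5.trans (norm_le_norm_cent B)⟩
    rw [hC.antisymm (le_inf hB hab.le_cent)] at h6
    exact or_assoc.1 (.inl (four_normal hO h4 tr ((Burnside_normal_complement h6
      inf_le_left).right_eq_iff.2 (op _ (h5.trans (norm_le_norm_cent B)))).ge))
  have h5 : ¬ Ab L := fun e => hN (le_norm_of_le_cent (e.le_cent.trans (cent_anti h3)))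
  have h6 : Zc L = ⊥ := (hL.2.2 _ (Zc_le L) (le_norm_Zc hL.2.1)).resolve_right (mt Zc_eq_self_iff.1 h5)
  have hs : IsSimpleGroup L := by
    have := (nontrivial_iff_ne_bot L).2 hL.1
    refine ⟨fun M hM => ?_⟩
    have h7 := normalIn_map_subtype M
    rw [← Subgroup.map_eq_bot_iff_of_injective M L.subtype_injective, ← map_subtype_eq_self_iff]
    generalize M.map L.subtype = M at h7
    by_cases h8 : B ≤ M
    · refine .inr (h7.le.antisymm (((hL.2.2 M.normalCore ((normalCore_le M).trans h7.le)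
        le_normalizer_of_normal).resolve_left fun e => b0 (le_bot_iff.1 (e ▸ fun b hb g => ?_))).ge.trans
        (normalCore_le M)))
      obtain ⟨l, hl, e⟩ := h1.exists_conj' (h1.conj_of_norm (hL.2.1 (mem_top g)))
      exact conj_le_of_mem_norm (h7.2 hl) h8 (e ▸ conj_mem_conj hb)
    have h9 := card_lt_of_lt (lt_of_le_not_ge (inf_le_left : B ⊓ M ≤ B) fun e => h8 (e.trans inf_le_right))
    have h10 := h4 ▸ card_dvd (inf_le_left : B ⊓ M ≤ B)
    have h11 : ♯(B ⊓ M : Subgroup G) = 1 ∨ ♯(B ⊓ M : Subgroup G) = 2 := by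
      rw [h4] at h9
      generalize ♯(B ⊓ M : Subgroup G) = n at *
      interval_cases n <;> omega
    have h12 := (cyclic_pdiv_normal_complement (h1.inf_normal h7) (h11.elim
      (fun e => by rw [card_eq_one.1 e]; infer_instance) fun e => isCyclic_of_prime (e ▸ Nat.prime_two))
      fun q hq _ => hq.two_le).right_eq_iff.2 (le_bot_iff.1 (op L hL.2.1 ▸ Opi_le_of_normal _ h7))
    rw [h12] at h11
    refine .inl (h11.elim card_eq_one.1 fun e => le_bot_iff.1 (h6 ▸ fun m hm => mem_Zc.2 ⟨h7.le hm,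
      fun l hl => by_contra fun e' => ?_⟩))
    have m1 : m ≠ 1 := fun e => e' (by simp [e])
    have := conj_mem_of_norm (h7.2 hl) hm
    rw [← eq_zpowers_of_prime (e ▸ Nat.prime_two) hm m1] at this
    exact e' (mul_inv_eq_iff_eq_mul.1 (eq_of_mem_zpowers (by
      rw [← pow_two, ← e]; exact congrArg Subtype.val (pow_card_eq_one' (x := (⟨m, hm⟩ : M)))) this
      (BSW.conj_ne_one m1)))
  obtain ⟨F, _, _, f1, f2, f3⟩ := gw L hs h5 fun e => by
    have := card_mul_relIndex h3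
    have := h1.not_dvd
    rw [h4] at *; omega
  refine .inr (.inr ⟨L, this, hs, h5, hO _ inferInstance fun e => ?_, F, _, _, by omega, f2, f3⟩)
  refine (hP.inf_normal ⟨le_top, hL.2.1.trans (norm_le_norm_cent L)⟩).ne_bot e (le_bot_iff.1 (h6 ▸ ?_))
  exact le_inf ((inf_le_inf_left P (cent_anti h3)).trans (hC.trans h3)) inf_le_right

theorem isPGroup_center (hO : ∀ N : Subgroup G, N.Normal → ¬ 2 ∣ ♯N → N = ⊥) :
    IsPGroup 2 (center G) := by
  obtain ⟨S, hS⟩ := exists_syl 2 (center G)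
  rw [← (Burnside_normal_complement hS (inf_le_left.trans (center_le_centralizer _))).right_eq_iff.2
    (hO _ (normal_of_top_le (le_norm_Opi _ le_normalizer_of_normal)) (not_dvd_Op' _))]
  exact hS.isPGroup

theorem odd_core_quot (hO : ∀ N : Subgroup G, N.Normal → ¬ 2 ∣ ♯N → N = ⊥) (Z : Subgroup G)
    [Z.Normal] (hZ : Z ≤ center G) (N : Subgroup (G ⧸ Z)) (hN : N.Normal) (h : ¬ 2 ∣ ♯N) : N = ⊥ := by
  obtain ⟨h1, h2⟩ := relIndex_comap_mk Z N
  have h3 := (Burnside_normal_complement (p := 2) ⟨h1, (isPGroup_center hO).to_le hZ, h2 ▸ h⟩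
    (le_top.trans (le_cent_comm.1 (hZ.trans (center_le_centralizer _))))).right_eq_iff.2
    (hO _ (normal_of_top_le (le_norm_Opi _ le_normalizer_of_normal)) (not_dvd_Op' _))
  rw [← card_eq_one, ← h2, ← h3, relIndex_self]

theorem le_center_of_isolated (G : Type u) [Group G] [Finite G] : ∀ P C : Subgroup G,
    (∀ N : Subgroup G, N.Normal → ¬ 2 ∣ ♯N → N = ⊥) → Syl 2 P ⊤ → C ≤ P →
    (∀ c ∈ C, ∀ g, g * c * g⁻¹ ∈ P → g * c * g⁻¹ = c) → C ≤ center G := by
  refine Core.induction_on_card (P := fun G _ _ => ∀ P C : Subgroup G,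
    (∀ N : Subgroup G, N.Normal → ¬ 2 ∣ ♯N → N = ⊥) → Syl 2 P ⊤ → C ≤ P →
    (∀ c ∈ C, ∀ g, g * c * g⁻¹ ∈ P → g * c * g⁻¹ = c) → C ≤ center G)
    (fun G _ _ ih P C hO hP hC h => ?_) G
  by_cases C0 : C = ⊥
  · rw [C0]; exact bot_le
  obtain ⟨z, hz, z1, z2⟩ := R1.exists_invol_mem (dvd_card_of_isPGroup (hP.isPGroup.to_le hC) C0)
  have hc : zpowers z ≤ center G := zpowers_le.2 (mem_center_iff.2 fun g => by
    have := R1.zstar G z z2 (fun g e => by
      obtain ⟨x, -, hx⟩ := hP.exists_conj_le le_top (abelem_isPGroup (abelem_sup (p := 2)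
        (abelem_zpowers (x := z) (by rwa [pow_two])) (abelem_zpowers (x := g * z * g⁻¹)
        (by rw [pow_two, BSW.conj_mul_self z2])) (by rwa [cent_zpowers, zpowers_le, mem_cent1])))
      refine (MulAut.conj x).injective (Eq.trans ?_
        (h z hz x (hx (conj_mem_conj (mem_sup_left (mem_zpowers z))))).symm)
      have := h z hz (x * g) (by
        simpa [mul_assoc] using hx (conj_mem_conj (mem_sup_right (mem_zpowers _))))
      simpa [mul_assoc] using this) g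
    rwa [hO _ inferInstance Core.not_dvd_card_pPrimeCore, mem_bot, mul_inv_eq_one,
      mul_inv_eq_iff_eq_mul] at this)
  have : (zpowers z).Normal := ⟨fun x hx g => by
    rwa [mem_center_iff.1 (hc hx) g, mul_inv_cancel_right]⟩
  have key : ∀ x, (QuotientGroup.mk' (zpowers z)) x ∈ P.map (QuotientGroup.mk' _) → x ∈ P :=
    fun x hx => by
      rwa [← mem_comap, comap_map_eq_self (by rw [QuotientGroup.ker_mk', zpowers_le]; exact hC hz)] at hx
  have := ih (G ⧸ zpowers z) (Core.card_quotient_lt (zpowers_eq_bot.not.2 z1)) _ _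
    (odd_core_quot hO _ hc) (map_top_of_surjective _ (QuotientGroup.mk'_surjective (zpowers z)) ▸ hP.map _)
    (map_mono hC) (by
      rintro _ ⟨c, hc, rfl⟩ g hg
      obtain ⟨g, rfl⟩ := QuotientGroup.mk'_surjective _ g
      rw [← map_inv, ← map_mul, ← map_mul] at hg ⊢
      rw [h c hc g (key _ hg)])
  refine fun c hc => mem_center_iff.2 fun g => mul_inv_eq_iff_eq_mul.1 (h c hc g (key _ ?_))
  rw [map_mul, map_mul, mem_center_iff.1 (this (mem_map_of_mem _ hc)), map_inv, mul_inv_cancel_right]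
  exact mem_map_of_mem _ (hC hc)

theorem count_classes {α β : Type*} [Finite α] (f : α → β) {F E : Set α} {t : ℕ}
    (h : ∀ a ∈ E, t ≤ {a' ∈ E | f a' = f a}.ncard) :
    t * (f '' (F ∪ E)).ncard ≤ t * F.ncard + E.ncard ∧ (0 < t → t * F.ncard + E.ncard ≤
      t * (f '' (F ∪ E)).ncard → ∀ d ∈ F, ∀ y ∈ F ∪ E, f y = f d → y = d) := by
  classical
  have h1 : t * (f '' E).ncard ≤ E.ncard := by
    have := Finset.mul_card_image_le_card (f := f) (Set.toFinite E).toFinset t fun b hb => by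
      obtain ⟨a, ha, rfl⟩ := Finset.mem_image.1 hb
      refine (h a (by simpa using ha)).trans_eq ?_
      rw [← Set.ncard_coe_finset]; congr 1; ext; simp
    rwa [← Set.ncard_coe_finset, ← Set.ncard_coe_finset, Finset.coe_image, Set.Finite.coe_toFinset] at this
  have h2 : ∀ F : Set α, t * (f '' (F ∪ E)).ncard ≤ t * F.ncard + E.ncard := fun F => by
    rw [Set.image_union]
    refine (Nat.mul_le_mul_left t ((Set.ncard_union_le _ _).trans
      (Nat.add_le_add_right (Set.ncard_image_le) _))).trans ?_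
    rw [mul_add]; omega
  refine ⟨h2 F, fun t0 e d hd y hy e' => by_contra fun hne => ?_⟩
  have h3 : f '' (F ∪ E) ⊆ f '' (F \ {d} ∪ E) := by
    rintro _ ⟨a, ha, rfl⟩
    by_cases ad : a = d
    · exact ⟨y, hy.imp_left fun h => ⟨h, hne⟩, ad ▸ e'⟩
    · exact ⟨a, ha.imp_left fun h => ⟨h, ad⟩, rfl⟩
  have h4 := (Nat.mul_le_mul_left t (Set.ncard_le_ncard h3 ((Set.toFinite _).image f))).trans (h2 _)
  have h5 := Set.ncard_sdiff_singleton_add_one hd
  rw [← h5, mul_add] at e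
  omega

end Cfsg.Agent.E8
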