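import Cfsg.Agent.Lib.E8.Half
import Cfsg.Agent.Lib.Cls.Count

/-!
# Groups with `|P| / 2` classes of 2-elements
-/

set_option autoImplicit false
set_option linter.unusedSectionVars false

namespace Cfsg.Agent.E8

open Subgroup Cfsg.Agent.Coprime Cfsg.Agent.OO
open scoped Pointwise MatrixGroups

universe u

variable {G : Type u} [Group G] [Finite G] {P A : Subgroup G}

variable (G) in
/-- the conclusion -/
def HalfConcl : Prop := Nonempty (G ≃* alternatingGroup (Fin 4)) ∨ Nonempty (G ≃* Equiv.Perm (Fin 4)) ∨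
  ∃ S : Subgroup G, S.Normal ∧ IsSimpleGroup S ∧ ¬ IsMulCommutative S ∧ 𝐂(S) = ⊥ ∧
    ∃ (F : Type) (_ : Field F) (_ : Fintype F), 3 < Fintype.card F ∧
      (Fintype.card F % 8 = 3 ∨ Fintype.card F % 8 = 5) ∧ Nonempty (S ≃* PSL(2, F))

local notation "π" => QuotientGroup.mk' (center G)

theorem half_quot (gw : R1.GW4.{u}) (hO : ∀ N : Subgroup G, N.Normal → ¬ 2 ∣ ♯N → N = ⊥)
    (hP : Syl 2 P ⊤) (hA : A ≤ P) (hZ : center G ≤ A) (h4 : (center G).relIndex A = 4)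
    (tr : ∀ a ∈ A, a ∉ center G → ∀ b ∈ A, b ∉ center G → IsConj (π a) (π b))
    (hC : ∀ p ∈ P, (∀ a ∈ A, π a * π p = π p * π a) → p ∈ A) (hD : P ⊓ der ⊤ ≤ A) :
    HalfConcl (G ⧸ center G) := by
  have hπ := QuotientGroup.mk'_surjective (center G)
  refine half_core gw (odd_core_quot hO _ le_rfl) (map_top_of_surjective _ hπ ▸ hP.map _) (map_mono hA)
    (by rw [← h4, ← relIndex_ker, QuotientGroup.ker_mk']) ?_ ?_ ?_
  · rintro _ ⟨a, ha, rfl⟩ a1 _ ⟨b, hb, rfl⟩ b1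
    exact isConj_iff.1 (tr a ha (mt (QuotientGroup.eq_one_iff a).2 a1) b hb
      (mt (QuotientGroup.eq_one_iff b).2 b1))
  · rintro _ ⟨⟨p, hp, rfl⟩, h⟩
    exact mem_map_of_mem _ (hC p hp fun a ha => mem_centralizer_iff.1 h _ (mem_map_of_mem _ ha))
  · rintro x ⟨h1, h2⟩
    rw [← map_top_of_surjective _ hπ, ← map_der] at h2
    obtain ⟨d, hd, rfl⟩ := h2
    refine mem_map_of_mem _ (hD ⟨?_, hd⟩)
    rwa [← comap_map_eq_self (f := π) (H := P) (by rw [QuotientGroup.ker_mk']; exact hZ.trans hA)]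

theorem three_le_relIndex {q k : ℕ} (hq : q.Prime) (q2 : q ≠ 2) {g x : G} (hg : g ^ q ^ k = 1)
    (hx : g * x ≠ x * g) : 3 ≤ 𝐂[x].relIndex (zpowers g) := by
  obtain ⟨j, -, hj⟩ := (Nat.dvd_prime_pow hq).1 ((relIndex_dvd_card 𝐂[x] (zpowers g)).trans
    (Nat.card_zpowers g ▸ orderOf_dvd_of_pow_eq_one hg))
  refine hj ▸ le_trans (by have := hq.two_le; omega) (Nat.le_self_pow ?_ q)
  rintro rfl
  exact hx (mem_cent1.1 (relIndex_eq_one.1 hj (mem_zpowers g)))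

theorem half_case1 (gw : R1.GW4.{u}) (hO : ∀ N : Subgroup G, N.Normal → ¬ 2 ∣ ♯N → N = ⊥)
    (hP : Syl 2 P ⊤) (hk : 2 * (ConjClasses.mk '' (P : Set G)).ncard = ♯P) {s : G} (hs : s ∈ 𝐍(P))
    (s2 : ¬ 2 ∣ orderOf s) (hs' : s ∉ 𝐂(P)) : HalfConcl (G ⧸ center G) := by
  obtain ⟨Y, hY, q, g, hg, h⟩ := Transfer.exists_itoPair_of_not_mem_centralizer hP.isPGroup
    (Nat.prime_two.coprime_iff_not_dvd.2 s2).symm hs hs'
  have := Fact.mk h.prime
  have hN : zpowers g ≤ 𝐍(P) := zpowers_le.2 (zpowers_le.2 hs hg)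
  obtain ⟨k, hk'⟩ := h.exists_orderOf
  have g1 : g ^ q ^ k = 1 := hk' ▸ pow_orderOf_eq_one g
  obtain ⟨n, hn⟩ := IsPGroup.iff_card.1 hP.isPGroup
  have cop : q.Coprime 2 := (Nat.coprime_primes h.prime Nat.prime_two).2 h.ne
  have h1 := Cls.relIndex_centralizer_modEq_one hN (Core.isPGroup_zpowers_of_orderOf hk')
    (hn ▸ h.prime.coprime_iff_not_dvd.1 (cop.pow_right n))
  rw [cent_zpowers] at h1
  have h2 : 4 ≤ 𝐂[g].relIndex P := by
    have h2 : 𝐂[g].relIndex P ≠ 1 := fun e =>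
      h.not_mem_centralizer (le_cent1_iff.1 (hY.trans (relIndex_eq_one.1 e)))
    have := relIndex_pos 𝐂[g] P
    have := Nat.le_of_dvd (by omega) ((Nat.modEq_iff_dvd' (by omega)).1 h1.symm)
    have := h.prime.two_le
    have := h.ne
    omega
  have h3 := card_inf_mul_relIndex 𝐂[g] P
  obtain ⟨h4, h5⟩ := count_classes ConjClasses.mk (F := (𝐂[g] ⊓ P : Subgroup G))
    (E := (P : Set G) \ (𝐂[g] ⊓ P : Subgroup G)) (t := 3) fun a ha => by
      refine (three_le_relIndex h.prime h.ne g1 fun e => ha.2 ⟨mem_cent1.2 e.symm, ha.1⟩).trans ?_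
      rw [← ncard_cls]
      refine Set.ncard_le_ncard ?_
      rintro _ ⟨x, hx, rfl⟩
      exact ⟨⟨conj_mem_of_norm (hN hx) ha.1, fun e => ha.2 ⟨(mem_norm_iff.1 (le_norm_self _
        (zpowers_le.2 (mem_cent1.2 rfl) hx)) a).2 e.1, ha.1⟩⟩,
        ConjClasses.mk_eq_mk_iff_isConj.2 (isConj_iff.2 ⟨x, rfl⟩).symm⟩
  rw [Set.union_sdiff_cancel (SetLike.coe_subset_coe.2 inf_le_right)] at h4 h5
  have h6 := Set.ncard_sdiff_add_ncard_of_subset (SetLike.coe_subset_coe.2 (inf_le_right : 𝐂[g] ⊓ P ≤ P))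
  change _ + ♯(𝐂[g] ⊓ P : Subgroup G) = ♯P at h6
  change _ ≤ 3 * ♯(𝐂[g] ⊓ P : Subgroup G) + _ at h4
  change _ → 3 * ♯(𝐂[g] ⊓ P : Subgroup G) + _ ≤ _ → _ at h5
  have h7 := Nat.mul_le_mul_left ♯(𝐂[g] ⊓ P : Subgroup G) h2
  have h8 : center G = 𝐂[g] ⊓ P := le_antisymm (le_inf (center_le_centralizer _)
    (hP.le_of_normal ⟨le_top, le_normalizer_of_normal⟩ (isPGroup_center hO)))
    (le_center_of_isolated G P _ hO hP inf_le_right fun c hc x hx => h5 (by omega) (by omega) c hc _ hx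
      (ConjClasses.mk_eq_mk_iff_isConj.2 (isConj_iff.2 ⟨x, rfl⟩).symm))
  have h9 : (center G).relIndex P = 4 := by
    rw [h8, inf_relIndex_right]
    exact le_antisymm (Nat.le_of_mul_le_mul_left (c := ♯(𝐂[g] ⊓ P : Subgroup G)) (by omega)
      (card_pos' _)) h2
  refine half_quot gw hO hP le_rfl (h8 ▸ inf_le_right) h9 (fun a ha a1 b hb b1 => ?_)
    (fun p hp _ => hp) inf_le_left
  have h10 : {y | ∃ x ∈ zpowers (π g), x * π a * x⁻¹ = y} ⊆ (P.map π : Set _) \ {1} := by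
    rintro _ ⟨_, ⟨j, rfl⟩, rfl⟩
    exact ⟨conj_mem_of_norm (zpow_mem (le_normalizer_map _ (mem_map_of_mem _ (hN (mem_zpowers g)))) j)
      (mem_map_of_mem _ ha), BSW.conj_ne_one (mt (QuotientGroup.eq_one_iff a).1 a1)⟩
  obtain ⟨x, -, hx⟩ := (Set.eq_of_subset_of_ncard_le h10 (by
    rw [Set.ncard_sdiff_singleton_of_mem (one_mem _), ncard_cls, show Set.ncard _ = 4 by
      exact (relIndex_ker P π).symm.trans (by rwa [QuotientGroup.ker_mk'])]
    refine three_le_relIndex (k := k) h.prime h.ne (by rw [← map_pow, g1, map_one]) fun e => a1 ?_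
    have hd : a⁻¹ * (g * a * g⁻¹) ∈ center G := QuotientGroup.eq.1 (show π a = π _ by
      rw [map_mul, map_mul, e, map_inv, mul_inv_cancel_right])
    generalize hd' : a⁻¹ * (g * a * g⁻¹) = d at hd
    have key : ∀ i : ℕ, g ^ i * a * (g ^ i)⁻¹ = a * d ^ i := fun i => by
      induction i with
      | zero => simp
      | succ i ih =>
        calc _ = g * (g ^ i * a * (g ^ i)⁻¹) * g⁻¹ := by group
          _ = g * a * g⁻¹ * d ^ i := by
            rw [ih, mul_assoc _ g⁻¹, mem_center_iff.1 (pow_mem hd i) g⁻¹]; group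
          _ = _ := by rw [pow_succ' d, ← mul_assoc a d, ← eq_inv_mul_iff_mul_eq.1 hd'.symm]
    obtain ⟨j, hj⟩ := isPGroup_center hO ⟨d, hd⟩
    have d1 : d = 1 := orderOf_eq_one_iff.1 (Nat.eq_one_of_dvd_coprimes (cop.pow k j)
      (orderOf_dvd_of_pow_eq_one (by simpa [g1] using (key (q ^ k)).symm))
      (orderOf_dvd_of_pow_eq_one (congrArg Subtype.val hj)))
    rw [d1, inv_mul_eq_one, eq_mul_inv_iff_mul_eq] at hd'
    exact h8 ▸ ⟨mem_cent1.2 hd', ha⟩)).ge ⟨mem_map_of_mem _ hb, mt (QuotientGroup.eq_one_iff b).1 b1⟩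
  exact isConj_iff.2 ⟨x, hx⟩

theorem card_der_le (hP : IsPGroup 2 P) (hk : 2 * (ConjClasses.mk '' (P : Set G)).ncard = ♯P) :
    ♯(der P) = 1 ∨ ♯(der P) = 2 := by
  have h1 := (Cls.sq_mul_card_conjClasses_le (G := P) 2 fun q hq _ => hq.two_le).resolve_right two_ne_zero
  have h2 := (congrArg Set.ncard (Set.image_eq_range _ _)).trans_le (Cls.ncard_range_mk_le P)
  have h3 := (commutator P).card_mul_index
  rw [der_eq_map, card_map_of_injective P.subtype_injective]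
  obtain ⟨j, hj⟩ := IsPGroup.iff_card.1 (hP.to_subgroup (commutator P))
  have : 2 ^ j < 2 ^ 2 := Nat.lt_of_mul_lt_mul_right (a := (commutator P).index) (by
    have := Nat.pos_of_ne_zero (index_ne_zero_of_finite (H := commutator P))
    rw [← hj, h3]; omega)
  have := (Nat.pow_lt_pow_iff_right one_lt_two).1 this
  interval_cases j <;> simp [hj]

theorem not_der_le (hO : ∀ N : Subgroup G, N.Normal → ¬ 2 ∣ ♯N → N = ⊥)
    (hP : Syl 2 P ⊤) (hk : 2 * (ConjClasses.mk '' (P : Set G)).ncard = ♯P)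
    (hN : ∀ g ∈ 𝐍(P), ∃ u ∈ P, ∃ s ∈ 𝐂(P), g = u * s) : ¬ der P ≤ center G := fun h => by
  classical
  have : (der P).Normal := ⟨fun x hx g => by rwa [mem_center_iff.1 (h hx) g, mul_inv_cancel_right]⟩
  have hπ := QuotientGroup.mk'_surjective (der P)
  have h0 := comap_map_eq_self (f := QuotientGroup.mk' (der P)) (H := P)
    (by rw [QuotientGroup.ker_mk']; exact der_le P)
  have h1 : Ab (P.map (QuotientGroup.mk' (der P))) := ab_iff_der.2 (by
    rw [← map_der, Subgroup.map_eq_bot_iff, QuotientGroup.ker_mk'])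
  have h2 := (Burnside_normal_complement (map_top_of_surjective _ hπ ▸ hP.map _) fun g hg => by
    obtain ⟨g, rfl⟩ := hπ g
    obtain ⟨u, hu, s, hs, rfl⟩ := hN g (mem_norm_of_conj_mem fun x hx => h0 ▸ mem_comap.2 (by
      simpa using conj_mem_of_norm hg.2 (mem_map_of_mem _ hx)))
    rw [map_mul]
    exact mul_mem (h1.le_cent (mem_map_of_mem _ hu)) (map_cent_le _ _ (mem_map_of_mem _ hs))
    ).right_eq_iff.2 (odd_core_quot hO _ h _ (normal_of_top_le (Opi_normal _ _).2) (not_dvd_Op' _))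
  rw [h2, comap_top] at h0
  have h3 := Finset.card_le_mul_card_image (f := ConjClasses.mk) (elts ((P : Set G) \ {1})) 2
    fun c hc => by
      obtain ⟨x, -, rfl⟩ := Finset.mem_image.1 hc
      refine le_trans ?_ (show (elts (der P : Set G)).card ≤ 2 by
        rw [card_elts_set]; exact (card_der_le hP.isPGroup hk).elim (fun e => e.trans_le one_le_two) le_of_eq)
      refine Finset.card_le_card_of_injOn (· * x⁻¹) (fun y hy => ?_) (mul_left_injective _).injOn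
      obtain ⟨g, hg⟩ := isConj_iff.1 (ConjClasses.mk_eq_mk_iff_isConj.1 (Finset.mem_filter.1 hy).2).symm
      exact mem_elts.2 (hg ▸ commutator_mem_commutator (h0 ▸ mem_top g) (h0 ▸ mem_top x))
  rw [card_elts_set, ← Set.ncard_coe_finset, Finset.coe_image, coe_elts] at h3
  have h4 := Set.ncard_sdiff_singleton_add_one (show (1 : G) ∈ (P : Set G) from P.one_mem)
  have h5 := Set.ncard_lt_ncard (s := ConjClasses.mk '' ((P : Set G) \ {1}))
    (t := ConjClasses.mk '' (P : Set G)) (Set.ssubset_iff_of_subset (Set.image_mono Set.sdiff_subset) |>.2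
      ⟨_, ⟨1, P.one_mem, rfl⟩, fun ⟨x, hx, e⟩ =>
        hx.2 (isConj_one_left.1 (ConjClasses.mk_eq_mk_iff_isConj.1 e))⟩) ((Set.toFinite _).image _)
  change _ = ♯P at h4
  omega

theorem relIndex_le_two {H : Subgroup G} {x y : G} (h : ∀ p ∈ H, p * x * p⁻¹ = x ∨ p * x * p⁻¹ = y) :
    𝐂[x].relIndex H ≤ 2 := by
  rw [← ncard_cls]
  refine (Set.ncard_le_ncard (t := {x, y}) ?_).trans (Set.ncard_insert_le _ _ |>.trans_eq (by simp))
  rintro _ ⟨g, hg, rfl⟩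
  exact h g hg

theorem relIndex_eq_two {H : Subgroup G} {x y p : G} (h : ∀ p ∈ H, p * x * p⁻¹ = x ∨ p * x * p⁻¹ = y)
    (hp : p ∈ H) (hp' : p ∉ 𝐂[x]) : 𝐂[x].relIndex H = 2 := by
  have := relIndex_le_two h
  have := relIndex_pos 𝐂[x] H
  have : 𝐂[x].relIndex H ≠ 1 := fun e => hp' (relIndex_eq_one.1 e hp)
  omega

theorem half_case2 (gw : R1.GW4.{u}) (hO : ∀ N : Subgroup G, N.Normal → ¬ 2 ∣ ♯N → N = ⊥)
    (hP : Syl 2 P ⊤) (hk : 2 * (ConjClasses.mk '' (P : Set G)).ncard = ♯P)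
    (hN : ∀ g ∈ 𝐍(P), ∃ u ∈ P, ∃ s ∈ 𝐂(P), g = u * s) : HalfConcl (G ⧸ center G) := by
  have h0 := not_der_le hO hP hk hN
  have h1 := (card_der_le hP.isPGroup hk).resolve_left fun e => h0 (card_eq_one.1 e ▸ bot_le)
  obtain ⟨z, hz, z1, z2⟩ := R1.exists_invol_mem h1.symm.dvd
  have h2 := eq_zpowers_of_prime (h1 ▸ Nat.prime_two) hz z1
  have hzP := der_le P hz
  have cm : ∀ p ∈ P, ∀ x ∈ P, p * x * p⁻¹ = x ∨ p * x * p⁻¹ = z * x := fun p hp x hx =>
    or_iff_not_imp_left.2 fun e => mul_inv_eq_iff_eq_mul.1 (eq_of_mem_zpowers z2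
      (h2 ▸ commutator_mem_commutator hp hx) (mt mul_inv_eq_one.1 e))
  have hPz : P ≤ 𝐂[z] := fun p hp => mem_cent1_iff_conj.2
    ((cm p hp z hzP).resolve_right (z2 ▸ BSW.conj_ne_one z1))
  have fus : ∀ g, g * z * g⁻¹ ∈ P → P ≤ 𝐂[g * z * g⁻¹] → g * z * g⁻¹ = z := fun g _ hg => by
    obtain ⟨c, hc, e⟩ := ((hP.conj_of_mem (mem_top g)).mono (cent1_conj g z ▸ conj_mono g hPz)
      le_top).exists_conj' (hP.mono hg le_top)
    obtain ⟨u, hu, s, hs, e'⟩ := hN (c * g) (mem_norm_of_conj_le (by rw [← conj_conj, ← e]))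
    have := mem_cent1_iff_conj.1 (e' ▸ mul_mem (hPz hu) (cent_le_cent1 hzP hs))
    rw [← mem_cent1_iff_conj.1 hc]
    exact Eq.trans (by group) this
  obtain ⟨g, hg, hg'⟩ : ∃ g, g * z * g⁻¹ ∈ P ∧ g * z * g⁻¹ ≠ z := by
    by_contra! e
    refine h0 (h2 ▸ le_center_of_isolated G P _ hO hP (zpowers_le.2 hzP) fun c hc g hg => ?_)
    by_cases c1 : c = 1
    · simp [c1]
    · obtain rfl := eq_of_mem_zpowers z2 hc c1
      exact e g hg
  obtain ⟨c, hc, hQ⟩ := ((hP.conj_of_mem (mem_top g)).mono (cent1_conj g z ▸ conj_mono g hPz)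
    le_top).exists_le_conj' (inf_le_left : 𝐂[g * z * g⁻¹] ⊓ P ≤ _) (hP.isPGroup.to_inf_right)
  rw [conj_conj] at hQ
  have hu : c * g * z * (c * g)⁻¹ = g * z * g⁻¹ := Eq.trans (by group) (mem_cent1_iff_conj.1 hc)
  rw [← hu] at hg hg' hQ
  generalize c * g = h at hg hg' hQ
  obtain ⟨t, ht, ht'⟩ := SetLike.not_le_iff_exists.1 (mt (fus h hg) hg')
  have cm1 : ∀ p ∈ h •ᶜ P, ∀ x ∈ h •ᶜ P, p * x * p⁻¹ = x ∨ p * x * p⁻¹ = h * z * h⁻¹ * x :=
    fun p hp x hx => (cm _ (mem_conj_smul.1 hp) _ (mem_conj_smul.1 hx)).imp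
      (fun e => (MulAut.conj h⁻¹).injective (by simpa [mul_assoc] using e)) fun e => by
        calc _ = h * (h⁻¹ * p * h * (h⁻¹ * x * h) * (h⁻¹ * p * h)⁻¹) * h⁻¹ := by group
          _ = _ := by rw [e]; group
  have hP1 : h •ᶜ P ≤ 𝐂[h * z * h⁻¹] := cent1_conj h z ▸ conj_mono h hPz
  have hzQ : z ∈ 𝐂[h * z * h⁻¹] ⊓ P := ⟨mem_cent1.2 (mem_cent1.1 (hPz hg)).symm, hzP⟩
  obtain ⟨t', hs, hs'⟩ : ∃ t' ∈ h •ᶜ P, t' ∉ 𝐂[z] := SetLike.not_le_iff_exists.1 fun e => hg' (by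
    have := fus h⁻¹ (by simpa using mem_conj_smul.1 (hQ hzQ)) (by
      rw [cent1_conj]; simpa using conj_mono h⁻¹ e)
    nth_rw 1 [← this]; group)
  have u2 := BSW.conj_mul_self (g := h) z2
  clear hu hc
  generalize h * z * h⁻¹ = u at *
  generalize h •ᶜ P = P1 at *
  have huQ : u ∈ 𝐂[u] ⊓ P := ⟨mem_cent1.2 rfl, hg⟩
  have hab : Ab (𝐂[u] ⊓ P) := ab_iff.2 fun x hx y hy => mul_inv_eq_iff_eq_mul.1
    ((cm x hx.2 y hy.2).elim id fun e => (cm1 x (hQ hx) y (hQ hy)).resolve_right fun e' =>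
      hg' (mul_right_cancel (e'.symm.trans e)))
  have tu := (cm t ht u hg).resolve_left (mt mem_cent1_iff_conj.2 ht')
  have tz := mem_cent1_iff_conj.1 (hPz ht)
  have su := mem_cent1_iff_conj.1 (hP1 hs)
  have sz := (cm1 t' hs z (hQ hzQ)).resolve_left (mt mem_cent1_iff_conj.2 hs')
  have zu : u * z = z * u := mem_cent1.1 (hPz hg)
  set Q := 𝐂[u] ⊓ P with hQ'
  set C := 𝐂[t'] ⊓ (𝐂[t] ⊓ Q) with hC'
  have mC : ∀ x ∈ Q, t * x * t⁻¹ = x → t' * x * t'⁻¹ = x → x ∈ C := fun x hx e e' =>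
    ⟨mem_cent1.2 (mul_inv_eq_iff_eq_mul.1 e').symm, mem_cent1.2 (mul_inv_eq_iff_eq_mul.1 e).symm, hx⟩
  have zC : z ∉ C := fun e => hs' (mem_cent1.2 (mem_cent1.1 e.1).symm)
  have i4 : C.relIndex Q = 4 := by
    rw [← relIndex_mul_relIndex C (𝐂[t] ⊓ Q) Q inf_le_right inf_le_right, inf_relIndex_right,
      inf_relIndex_right, relIndex_eq_two (H := 𝐂[t] ⊓ Q) (fun p hp => cm1 p (hQ hp.2) t' hs)
        (⟨mem_cent1.2 (mem_cent1.1 (hPz ht)).symm, hzQ⟩ : z ∈ 𝐂[t] ⊓ Q)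
        fun e => hs' (mem_cent1.2 (mem_cent1.1 e).symm),
      relIndex_eq_two (H := Q) (fun p hp => cm p hp.2 t ht) huQ fun e =>
        ht' (mem_cent1.2 (mem_cent1.1 e).symm)]
  have cj : ∀ g x y : G, g * (x * y) * g⁻¹ = g * x * g⁻¹ * (g * y * g⁻¹) := fun _ _ _ => by group
  have zz : ∀ x, z * (z * x) = x := fun x => by rw [← mul_assoc, z2, one_mul]
  have uu : ∀ x, u * (u * x) = x := fun x => by rw [← mul_assoc, u2, one_mul]
  have uz : ∀ x, u * (z * x) = z * (u * x) := fun x => by rw [← mul_assoc, zu, mul_assoc]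
  have rep : ∀ q ∈ Q, q ∉ C → ∃ c ∈ C, IsConj (z * c) q := fun q hq hq' => by
    have k1 : ∀ c ∈ C, IsConj (z * c) (z * (u * c)) := fun c hc => isConj_iff.2 ⟨t', by
      rw [cj, sz, mul_inv_eq_iff_eq_mul.2 (mem_cent1.1 hc.1).symm, zu, mul_assoc]⟩
    rcases cm t ht q hq.2 with e | e <;> rcases cm1 t' hs q (hQ hq) with e' | e'
    · exact (hq' (mC q hq e e')).elim
    · exact ⟨z * q, mC _ (mul_mem hzQ hq) (by rw [cj, tz, e]) (by
        rw [cj, sz, e', mul_assoc, ← uz, uu]), by rw [zz]⟩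
    · have hc := mC _ (mul_mem huQ hq) (by rw [cj, tu, e, mul_assoc, uz, zz]) (by rw [cj, su, e'])
      refine ⟨_, hc, (k1 _ hc).trans (isConj_iff.2 ⟨t, ?_⟩)⟩
      rw [uu, cj, tz, e, zz]
    · have hc := mC _ (mul_mem hzQ (mul_mem huQ hq)) (by
        rw [cj, cj, tz, tu, e, mul_assoc, zz, uz]) (by rw [cj, cj, sz, su, e', uu, zu, mul_assoc])
      exact ⟨_, hc, (k1 _ hc).trans (by rw [uz, uu, zz])⟩
  obtain ⟨-, h5⟩ := count_classes ConjClasses.mk (F := C ∪ (z * ·) '' C)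
    (E := (P : Set G) \ Q) (t := 2) fun a ha => by
      rw [← Set.ncard_pair (show a ≠ z * a by simpa using z1)]
      refine Set.ncard_le_ncard ?_
      rintro _ (rfl | rfl)
      · exact ⟨ha, rfl⟩
      · exact ⟨⟨mul_mem hzP ha.1, fun e => ha.2 ((mul_mem_cancel_left hzQ).1 e)⟩,
          ConjClasses.mk_eq_mk_iff_isConj.2 (isConj_iff.2 ⟨u, (cm u hg a ha.1).resolve_left fun e =>
            ha.2 ⟨mem_cent1.2 (mul_inv_eq_iff_eq_mul.1 e).symm, ha.1⟩⟩).symm⟩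
  have hF : (C ∪ (z * ·) '' C : Set G) ⊆ Q := by
    rintro _ (h | ⟨c, hc, rfl⟩)
    exacts [h.2.2, mul_mem hzQ hc.2.2]
  have rep' : ∀ q ∈ Q, ∃ d ∈ (C ∪ (z * ·) '' C : Set G), IsConj d q := fun q hq => by
    by_cases h : q ∈ C
    · exact ⟨q, .inl h, .refl q⟩
    · obtain ⟨c, hc, e⟩ := rep q hq h
      exact ⟨_, .inr ⟨c, hc, rfl⟩, e⟩
  replace h5 := h5 two_pos (by
    have e1 := Set.ncard_union_le (C : Set G) ((z * ·) '' C)
    have e2 : ((P : Set G) \ Q).ncard + ♯Q = ♯P :=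
      Set.ncard_sdiff_add_ncard_of_subset (SetLike.coe_subset_coe.2 (inf_le_right : Q ≤ P))
    have e3 := card_mul_relIndex (H := C) (K := Q) (inf_le_right.trans inf_le_right)
    have e4 := Set.ncard_le_ncard (s := ConjClasses.mk '' (P : Set G))
      (t := ConjClasses.mk '' (C ∪ (z * ·) '' C ∪ (P : Set G) \ Q)) (by
        rintro _ ⟨x, hx, rfl⟩
        by_cases h : x ∈ Q
        · obtain ⟨d, hd, e⟩ := rep' x h
          exact ⟨d, .inl hd, ConjClasses.mk_eq_mk_iff_isConj.2 e⟩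
        · exact ⟨x, .inr ⟨hx, h⟩, rfl⟩) ((Set.toFinite _).image _)
    rw [Set.ncard_image_of_injective _ (mul_right_injective z)] at e1
    change _ ≤ ♯C + ♯C at e1
    rw [i4] at e3
    omega)
  simp only [ConjClasses.mk_eq_mk_iff_isConj] at h5
  have nf : ∀ x ∈ P, ∀ y ∈ Q, IsConj x y → x ∈ Q := fun x hx y hy e => by_contra fun hx' => by
    obtain ⟨d, hd, e'⟩ := rep' y hy
    exact hx' (h5 d hd x (.inr ⟨hx, hx'⟩) (e.trans e'.symm) ▸ hF hd)
  have hZ : center G = C := le_antisymm (le_inf (center_le_centralizer _) (le_inf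
    (center_le_centralizer _) (le_inf (center_le_centralizer _) (hP.le_of_normal
    ⟨le_top, le_normalizer_of_normal⟩ (isPGroup_center hO)))))
    (le_center_of_isolated G P _ hO hP (fun _ h => h.2.2.2) fun c hc x hx => by
      have e := (isConj_iff.2 ⟨x, rfl⟩ : IsConj c (x * c * x⁻¹)).symm
      refine h5 c (.inl hc) _ (.inl (.inl (by_contra fun h => ?_))) e
      obtain ⟨c', hc', e'⟩ := rep _ (nf _ hx c hc.2.2 e) h
      exact zC ((mul_mem_cancel_right hc').1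
        (h5 c (.inl hc) (z * c') (.inl (.inr ⟨c', hc', rfl⟩)) (e'.trans e) ▸ hc)))
  have key : ∀ a ∈ Q, a ∉ center G → IsConj (π z) (π a) := fun a ha a1 => by
    obtain ⟨c, hc, e⟩ := rep a ha (hZ ▸ a1)
    have := (π).map_isConj e
    rwa [map_mul, show π c = 1 from (QuotientGroup.eq_one_iff c).2 (hZ ▸ hc), mul_one] at this
  refine half_quot gw hO hP inf_le_right (hZ ▸ fun _ h => h.2.2) (hZ ▸ i4)
    (fun a ha a1 b hb b1 => (key a ha a1).symm.trans (key b hb b1)) (fun p hp e => ?_) ?_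
  · refine ⟨mem_cent1_iff_conj.2 ((cm p hp u hg).resolve_right fun e' => zC (hZ ▸ ?_)), hp⟩
    have := congrArg π e'
    rw [map_mul, map_mul, ← e u huQ, map_inv, mul_inv_cancel_right, map_mul, right_eq_mul] at this
    exact (QuotientGroup.eq_one_iff z).1 this
  · rw [focal_subgroup_gen hP, closure_le]
    rintro _ ⟨x, hx, g, -, hy, rfl⟩
    have e : IsConj x (g * x * g⁻¹) := isConj_iff.2 ⟨g, rfl⟩
    generalize g * x * g⁻¹ = y at hy e
    by_cases h : x ∈ Q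
    · exact mul_mem (inv_mem h) (nf y hy x h e.symm)
    have e1 := (cm x hx u hg).resolve_left fun e => h ⟨mem_cent1_iff_conj.2 e, hx⟩
    have e2 := (cm y hy u hg).resolve_left fun e' => h (nf x hx y ⟨mem_cent1_iff_conj.2 e', hy⟩ e)
    refine ⟨mem_cent1_iff_conj.2 ?_, P.mul_mem (P.inv_mem hx) hy⟩
    calc _ = x⁻¹ * (y * u * y⁻¹) * x := by group
      _ = u := by rw [e2, ← e1]; group

theorem half_main (gw : R1.GW4.{u}) (hO : pPrimeCore 2 G = ⊥) (hP : Syl 2 P ⊤)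
    (hk : 2 * (ConjClasses.mk '' (P : Set G)).ncard = ♯P) : HalfConcl (G ⧸ center G) := by
  have hO' : ∀ N : Subgroup G, N.Normal → ¬ 2 ∣ ♯N → N = ⊥ := fun N _ e =>
    le_bot_iff.1 (hO ▸ Core.le_pPrimeCore_of_not_dvd e)
  by_cases h : ∀ s ∈ 𝐍(P), ¬ 2 ∣ orderOf s → s ∈ 𝐂(P)
  · refine half_case2 gw hO' hP hk fun g hg => ?_
    obtain ⟨u, s, ⟨k, hu⟩, hs, -, h1, h2, rfl⟩ := R1.exists_decomp Nat.prime_two g
    exact ⟨u, zpowers_le.1 (hP.le_of_norm le_top (Core.isPGroup_zpowers_of_pow_eq_one hu)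
      (.inr (zpowers_le.2 (zpowers_le.2 hg h1)))), s, h s (zpowers_le.2 hg h2) hs, rfl⟩
  · push Not at h
    obtain ⟨s, h1, h2, h3⟩ := h
    exact half_case1 gw hO' hP hk h1 h2 h3

end Cfsg.Agent.E8
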