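import Cfsg.Agent.Lib.E8.Ico
import Cfsg.Agent.Lib.E8.EC2
import Cfsg.Agent.Lib.Sig.Two
import Cfsg.Agent.Lib.Transfer.MinNonNilp
import Cfsg.Agent.Lib.R1.Hyp2

/-!
# The numbers 12, 24 and 60 are Hall numbers
-/

set_option autoImplicit false
set_option linter.unusedSectionVars false

namespace Cfsg.Agent.E8

open Subgroup Cfsg.Agent.Coprime Cfsg.Agent.OO
open scoped Pointwise MatrixGroups

universe u

variable {G : Type u} [Group G] [Finite G] {m k q : ℕ} {H X : Subgroup G} {g : G}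

theorem exists_card_of_sol (hG : Nat.card G = m * k) (hc : m.Coprime k) (hs : Sol H) (hm : m ∣ ♯H) :
    ∃ K : Subgroup G, ♯K = m := by
  obtain ⟨K, hK⟩ := exists_hall {p | p ∣ m} hs
  obtain ⟨j, hj⟩ := hm
  have h1 : j ∣ k := Nat.dvd_of_mul_dvd_mul_left (Nat.pos_of_mul_pos_right (hj ▸ card_pos' H))
    (hj ▸ hG ▸ card_subgroup_dvd_card H)
  exact ⟨K, hK.card_eq_partn.trans (partn_eq_of_mul (fun p _ h => h) (fun p hp h h' =>
    hp.one_lt.ne' (Nat.eq_one_of_dvd_coprimes hc h' (h.trans h1))) (card_pos' H).ne' hj.symm)⟩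

theorem relIndex_comap_mk (N : Subgroup G) [N.Normal] (K : Subgroup (G ⧸ N)) :
    N ≤ K.comap (QuotientGroup.mk' N) ∧ N.relIndex (K.comap (QuotientGroup.mk' N)) = ♯K := by
  have h4 := relIndex_ker (K.comap (QuotientGroup.mk' N)) (QuotientGroup.mk' N)
  rw [QuotientGroup.ker_mk', map_comap_eq_self_of_surjective (QuotientGroup.mk'_surjective _)] at h4
  exact ⟨(QuotientGroup.ker_mk' N).ge.trans (ker_le_comap _ _), h4⟩

theorem exists_card_of_quot (hG : Nat.card G = m * k) (hc : m.Coprime k) (N : Subgroup G) [N.Normal]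
    (hN : m.Coprime ♯N) (h : ∀ j, Nat.card (G ⧸ N) = m * j → m.Coprime j →
      ∃ K : Subgroup (G ⧸ N), ♯K = m) : ∃ K : Subgroup G, ♯K = m := by
  have h1 := N.card_eq_card_quotient_mul_card_subgroup
  obtain ⟨j, hj⟩ := hN.dvd_of_dvd_mul_right (h1 ▸ hG ▸ dvd_mul_right m k)
  obtain ⟨K, rfl⟩ := h j hj (hc.coprime_dvd_right (Nat.dvd_of_mul_dvd_mul_left
    (Nat.pos_of_mul_pos_right (hj ▸ Nat.card_pos)) (hj ▸ hG ▸ card_quotient_dvd_card N)))
  obtain ⟨h2, h3⟩ := relIndex_comap_mk N K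
  obtain ⟨L, hL⟩ := IsHallIn.exists_sdprod ⟨h2, h3 ▸ hN.symm⟩ le_normalizer_of_normal
  exact ⟨L, hL.relIndex_left.symm.trans h3⟩

theorem sol_of_pnil (h : HasNormalPComplement 2 H) : Sol H := by
  obtain ⟨S, hS⟩ := exists_syl 2 H
  exact ((pnil_iff_hasNormalPComplement.2 h).sdprod hS).sol
    (ft.solvable_of_not_dvd (not_dvd_Op' H)) hS.sol

theorem ito_dvd {p : ℕ} (h : Transfer.ItoPair p q X g) {x : G} (hx : x ∉ 𝐂[g]) :
    q ∣ 𝐂[x].relIndex (zpowers g) := by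
  obtain ⟨k, hk⟩ := h.exists_orderOf
  obtain ⟨j, -, hj⟩ := (Nat.dvd_prime_pow h.prime).1
    (hk ▸ Nat.card_zpowers g ▸ relIndex_dvd_card 𝐂[x] (zpowers g))
  refine hj ▸ dvd_pow_self q ?_
  rintro rfl
  exact hx (mem_cent1.2 (mem_cent1.1 (relIndex_eq_one.1 hj (mem_zpowers g))).symm)

theorem ito_cases (h : Transfer.ItoPair 2 q X g) (h8 : ♯X ∣ 8) :
    q = 3 ∧ 4 ∣ ♯X ∧ 3 ∣ orderOf g ∨ q = 7 ∧ ♯X = 8 ∧ X ⊓ 𝐂[g] = ⊥ := by
  have h1 : q ∣ ((X : Set G) \ (X ⊓ 𝐂[g] : Subgroup G)).ncard := dvd_ncard_conj (P := zpowers g)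
    (fun x hx a ha => ⟨conj_mem_of_norm (zpowers_le.2 h.mem_normalizer hx) ha.1, fun e => ha.2 ⟨ha.1,
      (mem_norm_iff.1 (le_norm_self _ (zpowers_le.2 (mem_cent1.2 rfl) hx)) a).2 e.2⟩⟩)
    fun a ha => ito_dvd h fun e => ha.2 ⟨ha.1, e⟩
  rw [Set.ncard_sdiff (SetLike.coe_subset_coe.2 inf_le_left)] at h1
  change q ∣ ♯X - ♯(X ⊓ 𝐂[g] : Subgroup G) at h1
  have h2 := card_lt_of_lt (lt_of_le_not_ge (inf_le_left : X ⊓ 𝐂[g] ≤ X) fun e =>
    h.not_mem_centralizer (le_cent1_iff.1 (e.trans inf_le_right)))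
  have h3 := (card_dvd (inf_le_left : X ⊓ 𝐂[g] ≤ X)).trans h8
  obtain ⟨k, hk⟩ := h.exists_orderOf
  have h4 : q ∣ orderOf g := hk ▸ dvd_pow_self q (by
    rintro rfl
    exact h.not_mem_centralizer (orderOf_eq_one_iff.1 hk ▸ one_mem _))
  have := h.prime
  have := h.ne
  have := Nat.le_of_dvd (by omega) h1
  have := Nat.le_of_dvd (by omega) h8
  rw [← card_eq_one]
  generalize ♯X = a, ♯(X ⊓ 𝐂[g] : Subgroup G) = b at *
  have : q ≤ 8 := by omega
  interval_cases a <;> interval_cases b <;> interval_cases q <;> simp_all (config := {decide := true})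

theorem exists_four (hs : ¬ Sol H) (h8 : ¬ 8 ∣ ♯H) : ∃ S ≤ H, ♯S = 4 ∧ 3 ∣ ♯(H ⊓ 𝐍(S)) := by
  obtain ⟨X, hX, q, g, hg, h⟩ := Transfer.exists_itoPair_le (mt sol_of_pnil hs)
  obtain ⟨k, hk⟩ := IsPGroup.iff_card.1 h.isPGroup
  have h1 : k < 3 := by
    by_contra e
    exact h8 ((pow_dvd_pow 2 (not_lt.1 e)).trans (hk ▸ card_dvd hX))
  rcases ito_cases h (hk ▸ pow_dvd_pow 2 h1.le) with ⟨-, e, e'⟩ | ⟨-, e, -⟩
  · exact ⟨X, hX, by interval_cases k <;> omega, e'.trans (orderOf_dvd_card ⟨hg, h.mem_normalizer⟩)⟩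
  · exact (h8 (e ▸ card_dvd hX)).elim

theorem sol_of_not_four (h : ¬ 4 ∣ ♯H) : Sol H := by_contra fun hs => by
  obtain ⟨S, hS, e, -⟩ := exists_four hs fun e => h (Dvd.dvd.trans (by norm_num) e)
  exact h (e ▸ card_dvd hS)

theorem sol_norm (hX : IsPGroup 2 X) (h : ¬ 4 * ♯X ∣ Nat.card G) : Sol 𝐍(X) :=
  sol_of_normal_of_quo ⟨le_norm_self X, le_rfl⟩ (sol_of_isPGroup hX) (sol_of_not_four fun e => h (by
    rw [card_quo le_rfl] at e
    refine Dvd.dvd.trans ?_ (card_subgroup_dvd_card 𝐍(X))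
    rw [← card_mul_relIndex (le_norm_self X), mul_comm 4]
    exact Nat.mul_dvd_mul_left _ e))

theorem exists_card_top (hG : Nat.card G = m * k) (hc : m.Coprime k) (hs : Sol (⊤ : Subgroup G)) :
    ∃ K : Subgroup G, ♯K = m := exists_card_of_sol hG hc hs (card_top (G := G) ▸ hG ▸ dvd_mul_right m k)

theorem norm_twelve (hs : ¬ Sol (⊤ : Subgroup G)) (h8 : ¬ 8 ∣ Nat.card G) :
    ∃ H : Subgroup G, Sol H ∧ 12 ∣ ♯H := by
  obtain ⟨S, -, h1, h2⟩ := exists_four hs (by rwa [card_top])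
  have := h1 ▸ card_dvd (le_norm_self S)
  rw [top_inf_eq] at h2
  exact ⟨_, sol_norm (.of_card (n := 2) h1) (by rw [h1]; omega), by omega⟩

theorem hall12 (hG : Nat.card G = 12 * k) (hc : Nat.Coprime 12 k) : ∃ K : Subgroup G, ♯K = 12 := by
  by_cases hs : Sol (⊤ : Subgroup G)
  · exact exists_card_top hG hc hs
  have : ¬ 2 ∣ k := fun e => by simpa using Nat.eq_one_of_dvd_coprimes hc (by norm_num) e
  obtain ⟨H, h1, h2⟩ := norm_twelve hs (by omega)
  exact exists_card_of_sol hG hc h1 h2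

theorem hall24_aux (hO : ∀ N : Subgroup G, N.Normal → ¬ 2 ∣ ♯N → N = ⊥) (hG : Nat.card G = 24 * k)
    (hc : Nat.Coprime 24 k) : ∃ K : Subgroup G, ♯K = 24 := by
  by_contra hK
  have k2 : ¬ 2 ∣ k := fun e => by simpa using Nat.eq_one_of_dvd_coprimes hc (by norm_num) e
  have k3 : ¬ 3 ∣ k := fun e => by simpa using Nat.eq_one_of_dvd_coprimes hc (by norm_num) e
  have h8 : ∀ X : Subgroup G, IsPGroup 2 X → ♯X ∣ 8 := fun X hX => by
    obtain ⟨j, hj⟩ := IsPGroup.iff_card.1 hX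
    refine hj ▸ pow_dvd_pow 2 (not_lt.1 fun e => ?_ : j ≤ 3)
    have : 16 ∣ _ := (pow_dvd_pow 2 e).trans (hj ▸ card_subgroup_dvd_card X)
    omega
  have syl : ∀ X : Subgroup G, IsPGroup 2 X → ♯X = 8 → Syl 2 X ⊤ := fun X hX e => ⟨le_top, hX, by
    have := e ▸ X.card_mul_index
    rw [relIndex_top_right]; omega⟩
  have key : ∀ q X g, Transfer.ItoPair 2 q (X : Subgroup G) g → q = 7 ∧ ♯X = 8 ∧ X ⊓ 𝐂[g] = ⊥ :=
    fun q X g h => (ito_cases h (h8 X h.isPGroup)).resolve_left fun ⟨_, e, e'⟩ => by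
      refine hK (exists_card_of_sol hG hc (sol_norm h.isPGroup fun e' => by
        have := (Nat.mul_dvd_mul_left 4 e).trans e'; omega) ?_)
      have h1 := e'.trans (orderOf_dvd_card h.mem_normalizer)
      obtain ⟨S, hS, hXS⟩ := exists_syl_ge (le_top : X ≤ ⊤) h.isPGroup
      have h2 := S.card_mul_index
      have h3 := hS.not_dvd
      have h4 := h8 S hS.isPGroup
      have h5 := card_mul_relIndex hXS
      rw [relIndex_top_right] at h3
      have h6 : ♯S = 8 := Nat.dvd_antisymm h4 (Nat.Coprime.dvd_of_dvd_mul_right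
        ((Nat.prime_two.coprime_iff_not_dvd.2 h3).pow_left 3) (h2 ▸ hG ▸ by omega))
      have h7 : S ≤ 𝐍(X) := by
        obtain ⟨c, hc⟩ := e
        have : X.relIndex S = 1 ∨ X.relIndex S = 2 := by
          have := Nat.le_of_dvd (by omega) (Dvd.intro_left c (show c * X.relIndex S = 2 by nlinarith))
          have := relIndex_pos X S
          omega
        exact this.elim (fun e => (relIndex_eq_one.1 e).trans (le_norm_self X))
          fun e => (normal_of_relIndex_prime hS.isPGroup hXS e).2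
      have := h6 ▸ card_dvd h7
      omega
  obtain ⟨S, -, q, g, -, h⟩ := Transfer.exists_itoPair_le (H := ⊤)
    fun e => hK (exists_card_top hG hc (sol_of_pnil e))
  obtain ⟨rfl, c8, hg⟩ := key q S g h
  have hS := syl S h.isPGroup c8
  obtain ⟨t, ht, t1, t2⟩ := R1.exists_invol_mem (H := S) (by omega)
  have tr : ∀ s ∈ S, s ≠ 1 → ∃ x ∈ zpowers g, x * t * x⁻¹ = s := by
    have h1 : {y | ∃ x ∈ zpowers g, x * t * x⁻¹ = y} ⊆ (S : Set G) \ {1} := by
      rintro _ ⟨x, hx, rfl⟩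
      exact ⟨conj_mem_of_norm (zpowers_le.2 h.mem_normalizer hx) ht, BSW.conj_ne_one t1⟩
    have := Set.eq_of_subset_of_ncard_le h1 (by
      rw [Set.ncard_sdiff_singleton_of_mem S.one_mem, ncard_cls, show Set.ncard _ = 8 from c8]
      exact Nat.le_of_dvd (relIndex_pos _ _) (ito_dvd h fun e => t1 (hg.le ⟨ht, e⟩)))
    exact fun s hs s1 => this.ge ⟨hs, s1⟩
  have sq : ∀ s ∈ S, s * s = 1 := fun s hs => by
    by_cases s1 : s = 1
    · simp [s1]
    obtain ⟨x, -, rfl⟩ := tr s hs s1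
    exact BSW.conj_mul_self t2
  have hab : Ab S := BSW.comm_of_mul_self sq
  have hC : ∀ s ∈ S, S ≤ 𝐂[s] := fun s hs => hab.le_cent.trans (cent_le_cent1 hs)
  have sd : ∀ s ∈ S, s ≠ 1 → IsSdprod (Op' 2 𝐂[s]) S 𝐂[s] := fun s hs s1 => by
    refine (pnil_iff_hasNormalPComplement.2 (by_contra fun e => ?_)).sdprod (hS.mono (hC s hs) le_top)
    obtain ⟨X, hX, q, y, hy, h⟩ := Transfer.exists_itoPair_le e
    obtain ⟨-, e1, e2⟩ := key q X y h
    exact s1 (e2.le ⟨zpowers_le.1 ((syl X h.isPGroup e1).le_of_norm le_top (abelem_isPGroup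
      (abelem_zpowers (p := 2) (by rw [pow_two, sq s hs]))) (.inl (le_norm_of_le_cent
      (by rwa [cent_zpowers])))), mem_cent1.2 (mem_cent1.1 hy).symm⟩)
  obtain ⟨E, hE, hE'⟩ := Sig.complete_two (A := S) (θ := fun a => Op' 2 𝐂[a]) ⟨Nat.prime_two,
    ⟨hab, fun a ha => by rw [pow_two, sq a ha]⟩, c8.ge, fun a _ _ => Opi_le _ _,
    fun a _ _ => not_dvd_Op' _, fun a ha a1 => (hC a ha).trans (sd a ha a1).normal.2,
    fun a _ _ => ft.solvable_of_not_dvd (not_dvd_Op' _), fun a _ _ b hb b1 =>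
      le_of_coprime_relIndex inf_le_right (sd b hb b1).normal.2 (by
        rw [(sd b hb b1).relIndex_left, c8]
        exact (Nat.prime_two.coprime_iff_not_dvd.2 fun e =>
          not_dvd_Op' _ (e.trans (card_dvd inf_le_left))).symm.pow_right 3)⟩
  have hN : 𝐍(S) ≤ 𝐍(⨆ a ∈ (S : Set G) \ {1}, Op' 2 𝐂[a]) := fun x hx => mem_norm_of_conj_le (by
    rw [conj_eq_map, map_le_iff_le_comap]
    refine iSup₂_le fun a ha => map_le_iff_le_comap.1 (le_iSup₂_of_le (x * a * x⁻¹)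
      ⟨conj_mem_of_norm hx ha.1, BSW.conj_ne_one ha.2⟩ ?_)
    rw [cent1_conj]
    exact (Opi_conj _ _ _).ge)
  have hW : Hyp (⨆ a ∈ (S : Set G) \ {1}, Op' 2 𝐂[a]) S t := ⟨fun e => hE.cop (e.trans (card_dvd
    (iSup₂_le fun a ha => hE' a ha.1 ha.2))), hS, sq, (le_norm_self S).trans hN, ht, t1,
    fun s hs s1 => (sd s hs s1).isProd.sup_eq.ge.trans (sup_le_sup_right
      (le_iSup₂_of_le (f := fun a (_ : a ∈ (S : Set G) \ {1}) => Op' 2 𝐂[a]) s ⟨hs, s1⟩ le_rfl) _),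
    fun s hs s1 => (tr s hs s1).imp fun _ e => ⟨hN (zpowers_le.2 h.mem_normalizer e.1), e.2⟩⟩
  rcases hW.normal_or (hW.eq_bot hO (.inr c8)) (by omega) with e | ⟨u, hu⟩
  · exact hK (exists_card_top hG hc (e ▸ sol_norm h.isPGroup (by rw [c8]; omega)))
  · have := (hypC_main hu sq (n := 3) c8).1
    omega

theorem hall24 (hG : Nat.card G = 24 * k) (hc : Nat.Coprime 24 k) : ∃ K : Subgroup G, ♯K = 24 := by
  have hO := Core.not_dvd_card_pPrimeCore (p := 2) (G := G)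
  by_cases h3 : 3 ∣ ♯(pPrimeCore 2 G)
  · obtain ⟨S, hS⟩ := exists_syl 2 (⊤ : Subgroup G)
    refine exists_card_of_sol hG hc (sol_sup le_normalizer_of_normal hS.sol
      (ft.solvable_of_not_dvd hO)) ?_
    have h1 := h3.trans (card_dvd (le_sup_right : _ ≤ S ⊔ _))
    have h2 := (Nat.Coprime.dvd_of_dvd_mul_right ((Nat.prime_two.coprime_iff_not_dvd.2
      hS.not_dvd).pow_left 3) (by rw [card_mul_relIndex le_top, card_top]; omega)).trans
      (card_dvd (le_sup_left : S ≤ S ⊔ pPrimeCore 2 G))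
    omega
  refine exists_card_of_quot hG hc (pPrimeCore 2 G) (Nat.Coprime.mul_left
    ((Nat.prime_two.coprime_iff_not_dvd.2 hO).pow_left 3) (Nat.prime_three.coprime_iff_not_dvd.2 h3))
    fun j => hall24_aux fun N _ e => le_bot_iff.1
      (Core.pPrimeCore_quotient_pPrimeCore (p := 2) (G := G) ▸ Core.le_pPrimeCore_of_not_dvd e)

theorem hall60 (gw : R1.GW4.{u}) (G : Type u) [Group G] [Finite G] :
    ∀ k, Nat.card G = 60 * k → Nat.Coprime 60 k → ∃ K : Subgroup G, ♯K = 60 := by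
  refine Core.induction_on_card (P := fun G _ _ => ∀ k, Nat.card G = 60 * k → Nat.Coprime 60 k →
    ∃ K : Subgroup G, ♯K = 60) (fun G _ _ ih k hG hc => ?_) G
  have k2 : ¬ 2 ∣ k := fun e => by simpa using Nat.eq_one_of_dvd_coprimes hc (by norm_num) e
  have k3 : ¬ 3 ∣ k := fun e => by simpa using Nat.eq_one_of_dvd_coprimes hc (by norm_num) e
  by_cases hs : Sol (⊤ : Subgroup G)
  · exact exists_card_top hG hc hs
  by_cases hsim : IsSimpleGroup G
  · obtain ⟨F, _, _, -, h1, ⟨e⟩⟩ := gw G hsim (fun e => hs (sol_of_ab inferInstance)) (by omega)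
    obtain ⟨H, hH⟩ := exists_sixty' (F := F) (by omega) (by rw [← Nat.card_congr e.toEquiv]; omega)
    exact ⟨H.map e.symm.toMonoidHom, (card_map_of_injective e.symm.injective).trans hH⟩
  obtain ⟨N, hN, h1, h2⟩ : ∃ N : Subgroup G, N.Normal ∧ N ≠ ⊥ ∧ N ≠ ⊤ := by
    by_contra! e
    have : Nontrivial G := Finite.one_lt_card_iff_nontrivial.1 (by omega)
    exact hsim ⟨fun N hN => or_iff_not_imp_left.2 (e N hN)⟩
  have h3 := N.card_eq_card_quotient_mul_card_subgroup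
  by_cases hN' : Sol N
  · obtain ⟨H, h4, h5⟩ := norm_twelve (G := G ⧸ N) (fun e => hs (by
      have : Group.IsSolvable (G ⧸ N) := Group.isSolvable_of_surjective
        (f := (topEquiv (G := G ⧸ N)).toMonoidHom) topEquiv.surjective
      have := Group.isSolvable_of_ker_le_range N.subtype (QuotientGroup.mk' N) (by simp)
      infer_instance)) fun e => by have := e.trans (card_quotient_dvd_card N); omega
    obtain ⟨h6, h7⟩ := relIndex_comap_mk N H
    have h8 := card_mul_relIndex h6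
    rw [h7] at h8
    by_cases h9 : 5 ∣ ♯N
    · refine exists_card_of_sol hG hc (H := H.comap (QuotientGroup.mk' N)) ?_
        (h8 ▸ Nat.mul_dvd_mul h9 h5)
      exact Group.isSolvable_of_ker_le_range (inclusion h6) ((QuotientGroup.mk' N).subgroupComap H)
        fun x hx => ⟨⟨x, (QuotientGroup.eq_one_iff _).1 (congrArg Subtype.val hx)⟩, rfl⟩
    have h10 := fun d (e : d ∣ ♯N) => h3 ▸ Nat.mul_dvd_mul (h5.trans (card_subgroup_dvd_card H)) e
    refine exists_card_of_quot hG hc N (Nat.Coprime.mul_left (Nat.Coprime.mul_left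
      ((Nat.prime_two.coprime_iff_not_dvd.2 fun e => ?_).pow_left 2)
      (Nat.prime_three.coprime_iff_not_dvd.2 fun e => ?_)) (Nat.prime_five.coprime_iff_not_dvd.2 h9))
      (ih _ (Core.card_quotient_lt h1)) <;> have := h10 _ e <;> omega
  obtain ⟨S, h4, h5, h6⟩ := exists_four hN' fun e => by
    have := e.trans (card_subgroup_dvd_card N); omega
  have h7 := h5 ▸ card_dvd h4
  by_cases h9 : 5 ∣ ♯N
  · have := h6.trans (card_dvd inf_le_left)
    obtain ⟨j, hj⟩ : 60 ∣ ♯N := by omega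
    obtain ⟨K, hK⟩ := ih N (Core.card_lt_of_ne_top h2) j hj (hc.coprime_dvd_right
      (Nat.dvd_of_mul_dvd_mul_left (by norm_num) (hj ▸ hG ▸ card_subgroup_dvd_card N)))
    exact ⟨K.map N.subtype, (card_map_of_injective N.subtype_injective).trans hK⟩
  have h8 : IsPGroup 2 S := .of_card (n := 2) h5
  refine exists_card_of_sol hG hc (sol_norm h8 (by rw [h5]; omega)) ?_
  have h10 := (IsSylowIn.frattini ⟨h4, h8, fun e => by
    have := (Nat.mul_dvd_mul_left 4 e).trans (h5 ▸ card_mul_relIndex h4 ▸ card_subgroup_dvd_card N)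
    omega⟩ ⟨le_top, le_normalizer_of_normal⟩).card_dvd
  rw [card_top, top_inf_eq] at h10
  have := (Nat.prime_five.dvd_mul.1 (Dvd.dvd.trans (by omega) h10)).resolve_left h9
  have := h6.trans (card_dvd inf_le_right)
  have := h5 ▸ card_dvd (le_norm_self S)
  omega

end Cfsg.Agent.E8
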