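import Cfsg.Agent.Lib.E8.Char
import Cfsg.Agent.Lib.Coprime.SylowOrbit

/-!
# Elementary abelian Sylow 2-subgroups of order 4, 8, 32 with a regular automizer
-/

set_option autoImplicit false
set_option linter.unusedSectionVars false

namespace Cfsg.Agent.E8

open Subgroup Cfsg.Agent.Coprime Cfsg.Agent.OO MulAction
open scoped Pointwise

universe u

variable {G : Type u} [Group G] [Finite G]

theorem ncard_orbit (A B : Subgroup G) (g : G) :
    (orbit A (g : G ⧸ B)).ncard = (g •ᶜ B).relIndex A := by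
  rw [← index_stabilizer, relIndex]
  congr 1
  ext a
  rw [mem_stabilizer_iff, mem_subgroupOf, mem_conj_smul, eq_comm]
  exact (QuotientGroup.eq (a := g) (b := a * g)).trans (by rw [mul_assoc])

theorem eq_bot_of_core (hO : ∀ N : Subgroup G, N.Normal → ¬ 2 ∣ ♯N → N = ⊥) {W M D : Subgroup G}
    (hW : ¬ 2 ∣ ♯W) (hM : M ≤ 𝐍(W)) (hD : D ≤ W) (h : ∀ g : G, D ≤ g •ᶜ M) : D = ⊥ := by
  have h1 : D ≤ M.normalCore := fun x hx g => by simpa using mem_conj_smul.1 (h g⁻¹ hx)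
  have h2 : W ⊓ M.normalCore ≤ Op' 2 M.normalCore := le_Opi ⟨inf_le_right,
    le_norm_inf ((normalCore_le M).trans hM) (le_norm_self _)⟩
    ((piGrp_compl_singleton Nat.prime_two).2 fun e => hW (e.trans (card_dvd inf_le_left)))
  rw [hO (Op' 2 M.normalCore) (normalizer_eq_top_iff.1 (top_le_iff.1
    (le_norm_Opi _ (normalizer_eq_top _).ge))) (not_dvd_Op' _)] at h2
  exact le_bot_iff.1 ((le_inf hD h1).trans h2)

theorem false_of_card (hO : ∀ N : Subgroup G, N.Normal → ¬ 2 ∣ ♯N → N = ⊥) {p m : ℕ} (hp : p.Prime)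
    (h2 : ¬ 2 ∣ p) (hG : Nat.card G = p * m) (hm : ¬ p ∣ m)
    (h : ∀ k ∈ m.divisors, k % p = 1 % p → k = 1) : False := by
  have := Fact.mk hp
  obtain ⟨P⟩ : Nonempty (Sylow p G) := inferInstance
  have m0 : m ≠ 0 := by rintro rfl; exact hm (dvd_zero p)
  have h1 : ♯(P : Subgroup G) = p := by
    rw [P.card_eq_multiplicity, hG, Nat.factorization_mul hp.ne_zero m0, Finsupp.add_apply,
      hp.factorization_self, Nat.factorization_eq_zero_of_not_dvd hm, pow_one]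
  have h3 : (P : Subgroup G).index = m := Nat.eq_of_mul_eq_mul_left hp.pos
    ((h1 ▸ (P : Subgroup G).card_mul_index).trans hG)
  have h4 := h _ (Nat.mem_divisors.2 ⟨h3 ▸ P.card_dvd_index, m0⟩) (card_sylow_modEq_one p G)
  rw [P.card_eq_index_normalizer, index_eq_one] at h4
  rw [hO _ (normalizer_eq_top_iff.1 h4) (by rwa [h1]), card_bot] at h1
  exact hp.one_lt.ne h1

namespace Hyp

variable {W S M : Subgroup G} {t : G} (h : Hyp W S t) (h1 : W ⊔ S ≤ M) (h2 : M ≤ 𝐍(W))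
  (h3 : ∀ s ∈ S, s ≠ 1 → ∃ g ∈ M, g * t * g⁻¹ = s)
include h

theorem card_Y : ♯(W ⊔ S) = ♯W * ♯S := card_sup_of_inf_eq_bot (.inr h.norm) h.inf_eq

include h1 h3

theorem mem_of_conj {y g : G} (hy : y ∈ M) (y1 : y ≠ 1) (y2 : y * y = 1) (hg : g * y * g⁻¹ ∈ M) :
    g ∈ M := by
  have key : ∀ x ∈ M, x ≠ 1 → x * x = 1 → ∃ m ∈ M, m * t * m⁻¹ = x := fun x hx x1 x2 => by
    obtain ⟨a, ha, e⟩ := h.exists_conj_mem (le_sup_right.trans h1) hx x2
    obtain ⟨b, hb, e'⟩ := h3 _ e (BSW.conj_ne_one x1)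
    exact ⟨a⁻¹ * b, mul_mem (inv_mem ha) hb, by
      rw [mul_inv_rev, mul_assoc a⁻¹, mul_assoc a⁻¹, ← mul_assoc _ b⁻¹, e']; group⟩
  obtain ⟨a, ha, rfl⟩ := key y hy y1 y2
  obtain ⟨b, hb, e⟩ := key _ hg (BSW.conj_ne_one y1) (BSW.conj_mul_self y2)
  have := h1 (h.cent t h.mem h.ne (mem_cent1_iff_conj.2 (show b⁻¹ * g * a * t * (b⁻¹ * g * a)⁻¹ = t by
    rw [← MulAut.conj_apply, ← (MulAut.conj b).injective.eq_iff]; simp [e, mul_assoc])))
  rwa [mul_mem_cancel_right ha, mul_mem_cancel_left (inv_mem hb)] at this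

theorem relIndex_conj {g : G} (hg : g ∉ M) :
    (g •ᶜ M).relIndex (W ⊔ S) = ♯S * (g •ᶜ M).relIndex W := by
  have e : (W ⊔ S) ⊓ g •ᶜ M = W ⊓ g •ᶜ M := by
    refine le_antisymm (fun y hy => ⟨h.reg ⟨hy.1, fun e => ?_⟩, hy.2⟩) (inf_le_inf_right _ le_sup_left)
    obtain ⟨x, hx⟩ := exists_prime_orderOf_dvd_card' 2 (Nat.card_zpowers y ▸ e)
    have := zpowers_le.2 hy x.2
    refine hg (inv_mem_iff.1 (h.mem_of_conj h1 h3 (h1 this.1) (fun e => by
      simp [← orderOf_coe, e] at hx) ?_ (by simpa using mem_conj_smul.1 this.2)))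
    rw [← pow_two, ← hx, ← orderOf_coe, pow_orderOf_eq_one]
  have e1 := card_inf_mul_relIndex (g •ᶜ M) (W ⊔ S)
  rw [inf_comm, e, h.card_Y, ← card_inf_mul_relIndex (g •ᶜ M) W, inf_comm, mul_assoc] at e1
  rw [Nat.eq_of_mul_eq_mul_left (card_pos' _) e1, mul_comm]

theorem one_not_mem {g : G} (hg : g ∉ M) : ((1 : G) : G ⧸ M) ∉ orbit (W ⊔ S : Subgroup G) (g : G ⧸ M) := by
  rintro ⟨y, e⟩
  have := (QuotientGroup.eq (a := y * g) (b := 1)).1 e
  rw [mul_one, inv_mem_iff, mul_mem_cancel_left (h1 y.2)] at this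
  exact hg this

theorem index_ge {g : G} (hg : g ∉ M) : ♯S * (g •ᶜ M).relIndex W + 1 ≤ M.index := by
  rw [← h.relIndex_conj h1 h3 hg, ← ncard_orbit, ← Set.ncard_insert_of_notMem (h.one_not_mem h1 h3 hg)]
  exact Set.ncard_le_card _

theorem dvd_index : ♯S ∣ M.index - 1 := by
  have := dvd_ncard_of_forall_orbit (P := W ⊔ S) (k := ♯S) (S := {((1 : G) : G ⧸ M)}ᶜ)
    (fun a ha w hw e => ?_) fun w hw => ?_
  · rwa [Set.ncard_compl, Set.ncard_singleton] at this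
  · induction w using QuotientGroup.induction_on with | H g =>
    exact h.one_not_mem h1 h3 (fun hg => hw (QuotientGroup.eq.2 (by simpa using hg))) ⟨⟨a, ha⟩, e⟩
  · induction w using QuotientGroup.induction_on with | H g =>
    refine Dvd.dvd.trans ?_ (ncard_orbit _ M g).symm.dvd
    rw [h.relIndex_conj h1 h3 fun hg => hw (QuotientGroup.eq.2 (by simpa using hg))]
    exact dvd_mul_right _ _

include h2

theorem card_ge : ♯W * ♯S * (♯S - 1) ≤ ♯M := by
  choose! g hg e using h3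
  have := Set.ncard_le_ncard_of_injOn (s := (S : Set G) \ {1})
    (t := orbit M ((1 : G) : G ⧸ (W ⊔ S))) (fun s => (g s : G ⧸ (W ⊔ S)))
    (fun s hs => ⟨⟨g s, hg s hs.1 hs.2⟩, congrArg _ (mul_one _)⟩) fun a ha b hb e' => ?_
  · rw [ncard_orbit, one_conj, Set.ncard_sdiff_singleton_of_mem S.one_mem] at this
    rw [← card_mul_relIndex h1, h.card_Y]
    exact Nat.mul_le_mul_left _ this
  · obtain ⟨w, hw, s, hs, e1⟩ := h.prod.mem_iff.1 (QuotientGroup.eq.1 e')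
    have e2 : b * a⁻¹ = g a * (w * (t * w⁻¹ * t⁻¹)) * (g a)⁻¹ := by
      have := ab_iff.1 h.ab s hs t h.mem
      rw [← e a ha.1 ha.2, ← e b hb.1 hb.2, e a ha.1 ha.2, eq_inv_mul_iff_mul_eq.1 e1 |>.symm,
        ← e a ha.1 ha.2, e a ha.1 ha.2]
      calc _ = g a * w * (s * t) * s⁻¹ * w⁻¹ * (g a)⁻¹ * a⁻¹ := by group
        _ = _ := by rw [this]; nth_rw 3 [← e a ha.1 ha.2]; group
    exact (mul_inv_eq_one.1 (mem_bot.1 (h.inf_eq ▸ (⟨e2 ▸ conj_mem_of_norm (h2 (hg a ha.1 ha.2))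
      (mul_mem hw (conj_mem_of_norm (h.norm h.mem) (inv_mem hw))),
      S.mul_mem hb.1 (S.inv_mem ha.1)⟩ : _ ∈ W ⊓ S)))).symm

theorem index_le (hO : ∀ N : Subgroup G, N.Normal → ¬ 2 ∣ ♯N → N = ⊥) (hW : W ≠ ⊥) {c : ℝ}
    (c0 : 0 ≤ c) (hc : ∀ k : ℕ, k ^ 2 ≤ ♯S → k ≤ c * (♯S + (♯S - 1) * k))
    (c1 : 0 ≤ 1 + 2 * c - c * ♯S) :
    M.index * (♯S - 1) * (1 + 2 * c - c * ♯S) ≤ ♯S * (♯S - 2) := by
  have e1 := h.bound hO hW c0 hc
  have e2 : (♯W * ♯S * (♯S - 1) : ℝ) ≤ ♯M := by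
    have := h.card_ge h1 h2 h3
    rw [← Nat.cast_le (α := ℝ)] at this
    push_cast [Nat.cast_sub (card_pos' S)] at this
    exact this
  rw [← M.index_mul_card, Nat.cast_mul] at e1
  refine le_of_mul_le_mul_left ?_ (mul_pos (cardR_pos W) (cardR_pos S))
  have := mul_le_mul_of_nonneg_right (mul_le_mul_of_nonneg_left e2 (Nat.cast_nonneg M.index)) c1
  linarith

omit h1 h2 h3

theorem odd_relIndex (A : Subgroup G) : A.relIndex W % 2 = 1 :=
  Nat.two_dvd_ne_zero.1 fun e => h.odd (e.trans (relIndex_dvd_card _ _))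

theorem eq_bot (hO : ∀ N : Subgroup G, N.Normal → ¬ 2 ∣ ♯N → N = ⊥) (hq : ♯S = 4 ∨ ♯S = 8) :
    W = ⊥ := by
  by_contra hW
  have i : 𝐍(W).index < 3 * ♯S + 1 := by
    rw [← Nat.cast_lt (α := ℝ)]
    rcases hq with e | e
    · have := h.index_le h.normal.2 le_rfl h.trans hO hW (c := 1 / 5) (by norm_num) (fun k hk => by
        have : k ≤ 2 := by nlinarith
        rw [e]; interval_cases k <;> norm_num) (by rw [e]; norm_num)
      rw [e] at this ⊢; push_cast at this ⊢; linarith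
    · have := h.index_le h.normal.2 le_rfl h.trans hO hW (c := 1 / 11) (by norm_num) (fun k hk => by
        have : k ≤ 2 := by nlinarith
        rw [e]; interval_cases k <;> norm_num) (by rw [e]; norm_num)
      rw [e] at this ⊢; push_cast at this ⊢; linarith
  refine hW (eq_bot_of_core hO h.odd le_rfl le_rfl fun g => ?_)
  by_cases hg : g ∈ 𝐍(W)
  · rw [conj_eq_of_mem hg]; exact le_norm_self W
  · have e1 := h.index_ge h.normal.2 h.trans hg
    have e2 := h.odd_relIndex (g •ᶜ 𝐍(W))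
    have e3 : (g •ᶜ 𝐍(W)).relIndex W < 3 := by
      by_contra e; nlinarith
    exact relIndex_eq_one.1 (by omega)

theorem eq_bot' (hO : ∀ N : Subgroup G, N.Normal → ¬ 2 ∣ ♯N → N = ⊥) (hq : ♯S = 32)
    (hc : W ≤ 𝐂(S)) : W = ⊥ := by
  by_contra hW
  have hY : ∀ s ∈ S, s ≠ 1 → 𝐂[s] = W ⊔ S := fun s hs s1 => (h.cent s hs s1).antisymm
    ((sup_le hc h.ab.le_cent).trans (cent_le_cent1 hs))
  set M := 𝐍(W ⊔ S) with hM
  have h1 : W ⊔ S ≤ M := le_norm_self _
  have h2 : M ≤ 𝐍(W) := by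
    rw [← Opi_eq_of_normal_hall (h.prod.hall_left ((piGrp_compl_singleton Nat.prime_two).2 h.odd)
      (by rw [compl_compl]; exact h.syl.piGrp)) h.normal.2]
    exact norm_le_norm_Opi _ _
  have h3 : ∀ s ∈ S, s ≠ 1 → ∃ g ∈ M, g * t * g⁻¹ = s := fun s hs s1 => by
    obtain ⟨g, -, e⟩ := h.trans s hs s1
    refine ⟨g, mem_norm_of_conj_le (le_of_eq ?_), e⟩
    rw [← hY t h.mem h.ne, ← cent1_conj, e, hY s hs s1, hY t h.mem h.ne]
  have i : M.index < 157 := by
    have := h.index_le h1 h2 h3 hO hW (c := 5 / 187) (by norm_num) (fun k hk => by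
      have : k ≤ 5 := by nlinarith
      rw [hq]; interval_cases k <;> norm_num) (by rw [hq]; norm_num)
    rw [← Nat.cast_lt (α := ℝ)]
    rw [hq] at this; push_cast at this ⊢; linarith
  have hin : ∀ g ∈ M, W ≤ g •ᶜ M := fun g hg => by
    rw [conj_eq_of_mem hg]; exact le_sup_left.trans h1
  obtain ⟨a, ha⟩ : ∃ a : G, ¬ W ≤ a •ᶜ M := not_forall.1 fun e =>
    hW (eq_bot_of_core hO h.odd h2 le_rfl e)
  have aM : a ∉ M := fun e => ha (hin a e)
  have i2 := h.index_ge h1 h3 aM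
  have r3 : (a •ᶜ M).relIndex W = 3 := by
    have e2 := h.odd_relIndex (a •ᶜ M)
    have e3 := mt relIndex_eq_one.1 ha
    rw [hq] at i2
    omega
  have hn : W ⊔ S ≤ 𝐍(W ⊓ a •ᶜ M) := by
    refine sup_le ?_ (le_norm_of_le_cent (le_cent_comm.1 (inf_le_left.trans hc)))
    have : ((a •ᶜ M).subgroupOf W).Normal := normal_of_index_eq_minFac_card (by
      refine r3.trans (le_antisymm ?_ (Nat.minFac_le_of_dvd (by norm_num)
        (r3 ▸ relIndex_dvd_card _ _)))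
      have e1 := (Nat.minFac_prime (mt card_eq_one.1 hW)).two_le
      have e2 : (♯W).minFac ≠ 2 := fun e => h.odd (e ▸ Nat.minFac_dvd _)
      omega)
    rw [← inf_subgroupOf_left] at this
    exact (normal_subgroupOf_iff_le_normalizer inf_le_left).1 this
  have hD : W ⊓ a •ᶜ M = ⊥ := eq_bot_of_core hO h.odd h2 inf_le_left fun g => by
    by_cases hg : g ∈ M
    · exact inf_le_left.trans (hin g hg)
    rcases orbit.eq_or_disjoint (G := (W ⊔ S : Subgroup G)) (a : G ⧸ M) g with e | e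
    · obtain ⟨y, e'⟩ := e ▸ mem_orbit_self (g : G ⧸ M)
      have := (QuotientGroup.eq (a := y * a) (b := g)).1 e'
      rw [show g = y * (a * ((y * a)⁻¹ * g)) by group, ← conj_conj, ← conj_conj, conj_eq_of_mem this,
        ← conj_eq_of_mem_norm (hn y.2)]
      exact conj_mono _ inf_le_right
    · have e1 := Set.ncard_le_card (insert ((1 : G) : G ⧸ M)
        (orbit (W ⊔ S : Subgroup G) (a : G ⧸ M) ∪ orbit (W ⊔ S : Subgroup G) (g : G ⧸ M)))
      rw [Set.ncard_insert_of_notMem fun e => e.elim (h.one_not_mem h1 h3 aM) (h.one_not_mem h1 h3 hg),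
        Set.ncard_union_eq e, ncard_orbit, ncard_orbit, h.relIndex_conj h1 h3 aM,
        h.relIndex_conj h1 h3 hg, ← index_eq_card] at e1
      have e2 := h.odd_relIndex (g •ᶜ M)
      exact inf_le_left.trans (relIndex_eq_one.1 (by rw [hq, r3] at e1; omega))
  have w3 : ♯W = 3 := by rw [← card_inf_mul_relIndex (a •ᶜ M) W, inf_comm, hD, r3, card_bot]
  have m1 : ♯M = 2976 := by
    have e1 := h.card_ge h1 h2 h3
    have e2 := Set.ncard_le_ncard (s := {y | ∃ x ∈ M, x * t * x⁻¹ = y}) (t := (S : Set G) \ {1}) (by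
      rintro _ ⟨x, hx, rfl⟩
      exact ⟨conj_mem_of_norm ((h.syl.mono le_sup_right le_top).norm_le_norm_of_normal
        (sup_le (le_norm_of_le_cent hc) (le_norm_self S)) hx) h.mem, BSW.conj_ne_one h.ne⟩)
    rw [Camina.ncard_class, hY t h.mem h.ne, inf_eq_right.2 h1,
      Set.ncard_sdiff_singleton_of_mem S.one_mem] at e2
    have e3 := card_mul_relIndex h1
    change _ ≤ ♯S - 1 at e2
    rw [h.card_Y] at e3
    rw [w3, hq] at e1 e3
    omega
  have i3 := h.dvd_index h1 h3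
  have := M.index_mul_card
  rw [m1] at this
  rw [hq, r3] at i2
  rw [hq] at i3
  obtain e | e : M.index = 97 ∨ M.index = 129 := by omega
  · exact false_of_card hO (p := 97) (m := 2976) (by norm_num) (by norm_num) (by omega) (by norm_num)
      (by decide +kernel)
  · exact false_of_card hO (p := 43) (m := 8928) (by norm_num) (by norm_num) (by omega) (by norm_num)
      (by decide +kernel)

/-- the case `W = 1` -/
theorem normal_or (hW : W = ⊥) (hq : 2 < ♯S) : 𝐍(S) = ⊤ ∨ ∃ u, BSW.HypC S u := by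
  have cc : ∀ x ∈ S, x ≠ 1 → ∀ g : G, g * x = x * g ↔ g ∈ S := fun x hx x1 g =>
    ⟨fun e => by simpa [hW] using h.cent x hx x1 (mem_cent1.2 e), fun e => ab_iff.1 h.ab g e x hx⟩
  have hI : BSW.HypI S := ⟨fun x hx x1 _ => cc x hx x1, t, h.mem, h.ne, h.sq t h.mem⟩
  refine or_iff_not_imp_left.2 fun hM => ?_
  obtain ⟨u, hu, u2⟩ := hI.exists_inv_not_mem hM
  obtain ⟨s, hs, hs'⟩ : ∃ s ∈ S, s ∉ zpowers t := SetLike.not_le_iff_exists.1 fun e => by
    have := card_le e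
    rw [Nat.card_zpowers, orderOf_eq_prime (p := 2) (by rw [pow_two, h.sq t h.mem]) h.ne] at this
    omega
  obtain ⟨g, -, e⟩ := h.trans s hs fun e => hs' (e ▸ one_mem _)
  refine ⟨u, hI, fun x hx x1 g => (cc x hx x1 g).1, ⟨g, hI.mem_norm_of_conj h.mem h.ne
    (h.sq t h.mem) (e ▸ hs), fun hg => hs' ?_⟩, hu, u2⟩
  rw [← e, (cc t h.mem h.ne g).2 hg, mul_inv_cancel_right]
  exact mem_zpowers t

end Hyp

end Cfsg.Agent.E8
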