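import Cfsg.Agent.Lib.E8.Main
import Cfsg.Agent.Lib.E8.Field
import Cfsg.Agent.Lib.Coprime.FTFinal

/-!
# Odd order automizers transitive on points and lines
-/

set_option autoImplicit false
set_option linter.unusedSectionVars false

namespace Cfsg.Agent.E8

open Subgroup Cfsg.Agent.Coprime Cfsg.Agent.OO
open scoped Pointwise

universe u

variable {G : Type u} [Group G] [Finite G] {S : Subgroup G} {t : G}

theorem ncard_cls (P : Subgroup G) (g : G) :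
    {y | ∃ x ∈ P, x * g * x⁻¹ = y}.ncard = 𝐂[g].relIndex P := by
  rw [Camina.ncard_class, inf_relIndex_left]

theorem dvd_ncard_conj {P : Subgroup G} {k : ℕ} {A : Set G}
    (hA : ∀ x ∈ P, ∀ a ∈ A, x * a * x⁻¹ ∈ A) (h : ∀ a ∈ A, k ∣ 𝐂[a].relIndex P) : k ∣ A.ncard :=
  @dvd_ncard_of_forall_orbit G _ G _ (MulAction.compHom G (MulAut.conj : G →* MulAut G)) P k A hA
    fun a ha => by
      convert h a ha using 1
      rw [← ncard_cls]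
      congr 1
      ext y
      exact ⟨fun ⟨x, e⟩ => ⟨x, x.2, e⟩, fun ⟨x, hx, e⟩ => ⟨⟨x, hx⟩, e⟩⟩

theorem rank_arith {b c m : ℕ} (h1 : m ∣ b - 1) (h2 : m ∣ b * c - 1) (h3 : b * c ≤ 6 * m + 1)
    (h4 : ¬ 2 ∣ b * c) (h5 : ¬ 2 ∣ m) (h6 : b ≠ 1) : c = 1 := by
  have b2 : ¬ 2 ∣ b := fun e => h4 (e.mul_right _)
  have c2 : ¬ 2 ∣ c := fun e => h4 (e.mul_left _)
  have key : ∀ x, ¬ 2 ∣ x → x ≠ 1 → m ∣ x - 1 → 2 * m + 1 ≤ x := fun x x2 x1 hx => by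
    have := Nat.le_of_dvd (by omega) (((Nat.Prime.coprime_iff_not_dvd Nat.prime_two).2
      h5).mul_dvd_of_dvd_of_dvd (by omega : 2 ∣ x - 1) hx)
    omega
  by_contra c1
  have e1 := key b b2 h6 h1
  have e2 := key c c2 c1 (by
    obtain ⟨b, rfl⟩ : ∃ k, b = k + 1 := ⟨b - 1, by omega⟩
    rw [Nat.add_sub_cancel] at h1
    rw [show (b + 1) * c - 1 = b * c + (c - 1) by rw [add_mul]; omega] at h2
    exact (Nat.dvd_add_right (h1.mul_right c)).1 h2)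
  have := Nat.mul_le_mul e1 e2
  have : 1 ≤ m := by omega
  nlinarith

theorem card_zpowers_two (t1 : t ≠ 1) (t2 : t * t = 1) : ♯(zpowers t) = 2 := by
  rw [Nat.card_zpowers, orderOf_eq_prime (p := 2) (by rwa [pow_two]) t1]

theorem eq_of_mem_zpowers (t2 : t * t = 1) {s : G} (hs : s ∈ zpowers t) (s1 : s ≠ 1) : s = t := by
  obtain ⟨k, rfl⟩ := (mem_powers_iff_mem_zpowers.2 hs : ∃ k : ℕ, t ^ k = s)
  beta_reduce at s1 ⊢
  rw [pow_eq_pow_mod k (show t ^ 2 = 1 by rwa [pow_two])] at s1 ⊢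
  rcases Nat.mod_two_eq_zero_or_one k with e | e <;> simp [e] at s1 ⊢

theorem card_four (sq : ∀ s ∈ S, s * s = 1) (ht : t ∈ S) (t1 : t ≠ 1) {s : G} (hs : s ∈ S)
    (h : s ∉ zpowers t) : ♯(zpowers t ⊔ zpowers s) = 4 := by
  have s1 : s ≠ 1 := fun e => h (e ▸ one_mem _)
  rw [card_sup_of_inf_eq_bot (.inl (le_norm_of_le_cent ((zpowers_le.2 ht).trans
    ((Ab.le_cent (BSW.comm_of_mul_self sq)).trans (cent_anti (zpowers_le.2 hs)))))),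
    card_zpowers_two t1 (sq t ht), card_zpowers_two s1 (sq s hs)]
  refine eq_bot_iff.2 fun x hx => by_contra fun e => h ?_
  exact eq_of_mem_zpowers (sq s hs) hx.2 e ▸ hx.1

theorem exists_reg (hS : Syl 2 S ⊤) (sq : ∀ s ∈ S, s * s = 1) (ht : t ∈ S) (t1 : t ≠ 1)
    (hq : 2 < ♯S) (tr : ∀ s ∈ S, s ≠ 1 → ∃ g ∈ 𝐍(S), g * t * g⁻¹ = s)
    (tr2 : ∀ U ≤ S, ∀ V ≤ S, ♯U = 4 → ♯V = 4 → ∃ g ∈ 𝐍(S), V = g •ᶜ U) :
    ∃ R, 𝐂(S) ≤ R ∧ R ⊴ 𝐍(S) ∧ der R ≤ 𝐂(S) ∧ (∀ s ∈ S, s ≠ 1 → ∃ r ∈ R, r * t * r⁻¹ = s) ∧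
      ∃ m, ♯S ≤ 6 * m + 2 ∧ ∀ s ∈ S, s ∉ zpowers t → 𝐂[s].relIndex (𝐍(S) ⊓ 𝐂[t]) = m := by
  classical
  have hab : Ab S := BSW.comm_of_mul_self sq
  have c2 := card_zpowers_two t1 (sq t ht)
  obtain ⟨z, hz, hz'⟩ : ∃ s ∈ S, s ∉ zpowers t := SetLike.not_le_iff_exists.1 fun e => by
    have := card_le e; omega
  have hU : ∀ s ∈ S, zpowers t ⊔ zpowers s ≤ S := fun s hs =>
    sup_le (zpowers_le.2 ht) (zpowers_le.2 hs)
  choose! g hg hg' using fun s (hs : s ∈ S) (hs' : s ∉ zpowers t) => tr2 _ (hU s hs) _ (hU z hz)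
    (card_four sq ht t1 hs hs') (card_four sq ht t1 hz hz')
  have hm : ∀ s ∈ S, s ∉ zpowers t →
      𝐂[s].relIndex (𝐍(S) ⊓ 𝐂[t]) = 𝐂[z].relIndex (𝐍(S) ⊓ 𝐂[t]) := fun s hs hs' => by
    have e : ∀ s, 𝐂[s] ⊓ (𝐍(S) ⊓ 𝐂[t]) = 𝐍(S) ⊓ 𝐂(zpowers t ⊔ zpowers s) := fun s => by
      rw [cent_sup, cent_zpowers, cent_zpowers, inf_comm, inf_assoc]
    refine Nat.eq_of_mul_eq_mul_left (card_pos' (𝐂[s] ⊓ (𝐍(S) ⊓ 𝐂[t]))) ?_
    rw [card_inf_mul_relIndex, e, ← card_conj (g s) (_ ⊓ 𝐂(_)), conj_inf, ← cent_conj, ← hg' s hs hs',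
      conj_eq_of_mem (hg s hs hs'), ← e, card_inf_mul_relIndex]
  set m := 𝐂[z].relIndex (𝐍(S) ⊓ 𝐂[t])
  have n1 : ((S : Set G) \ zpowers t).ncard = ♯S - 2 := by
    rw [Set.ncard_sdiff (zpowers_le.2 ht), ← c2]; rfl
  have hb : ♯S ≤ 6 * m + 2 := by
    let T := elts (((zpowers t ⊔ zpowers z : Subgroup G) : Set G) \ {1})
    have := Finset.card_le_mul_card_image_of_maps_to (s := elts ((S : Set G) \ zpowers t))
      (t := T.offDiag) (f := fun s => (g s * t * (g s)⁻¹, g s * s * (g s)⁻¹)) (fun s hs => ?_) m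
      fun p _ => ?_
    · rw [Finset.offDiag_card, card_elts_set, card_elts_set, n1,
        Set.ncard_sdiff_singleton_of_mem (one_mem _)] at this
      rw [show Set.ncard _ = 4 from card_four sq ht t1 hz hz'] at this
      omega
    · have hs := mem_elts.1 hs
      simp only [T, Finset.mem_offDiag, mem_elts, hg' s hs.1 hs.2]
      exact ⟨⟨conj_mem_conj (mem_sup_left (mem_zpowers t)), BSW.conj_ne_one t1⟩,
        ⟨conj_mem_conj (mem_sup_right (mem_zpowers s)), BSW.conj_ne_one fun e =>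
          hs.2 (e ▸ one_mem _)⟩, fun e => hs.2 ((by simpa using e : t = s) ▸ mem_zpowers t)⟩
    · rcases Finset.eq_empty_or_nonempty ((elts ((S : Set G) \ zpowers t)).filter
        fun s => (g s * t * (g s)⁻¹, g s * s * (g s)⁻¹) = p) with e | ⟨s, hs⟩
      · rw [e]; exact Nat.zero_le _
      simp only [Finset.mem_filter, mem_elts] at hs
      rw [← hm s hs.1.1 hs.1.2, ← ncard_cls, ← card_elts_set]
      refine Finset.card_le_card fun y hy => ?_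
      simp only [Finset.mem_filter, mem_elts, ← hs.2, Prod.mk.injEq] at hy ⊢
      refine ⟨(g y)⁻¹ * g s, ⟨𝐍(S).mul_mem (inv_mem (hg y hy.1.1 hy.1.2)) (hg s hs.1.1 hs.1.2),
        mem_cent1_iff_conj.2 ?_⟩, ?_⟩
      · calc _ = (g y)⁻¹ * (g s * t * (g s)⁻¹) * g y := by group
          _ = _ := by rw [← hy.2.1]; group
      · calc _ = (g y)⁻¹ * (g s * s * (g s)⁻¹) * g y := by group
          _ = _ := by rw [← hy.2.2]; group
  have hC : 𝐂(S) ⊴ 𝐍(S) := ⟨cent_le_norm S, norm_le_norm_cent S⟩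
  have ho : ¬ 2 ∣ 𝐂(S).relIndex 𝐍(S) := fun e => (hS.mono (le_norm_self S) le_top).not_dvd
    (e.trans (relIndex_dvd_of_le_left _ hab.le_cent))
  obtain ⟨X, hX, hX'⟩ := exists_minNormalBy (quo_ne_bot hC.2 fun e => by
    obtain ⟨x, hx, e'⟩ := tr z hz fun e => hz' (e ▸ one_mem _)
    rw [mem_cent1_iff_conj.1 (cent_le_cent1 ht (e hx))] at e'
    exact hz' (e' ▸ mem_zpowers t)) (le_norm_self _)
  obtain ⟨p, -, hp⟩ := hX.exists_abelem (sol_of_le (ft.solvable_of_not_dvd (card_quo hC.2 ▸ ho)) hX')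
  have hR : quoPre 𝐂(S) X ⊴ 𝐍(S) := quoPre_normal hC ⟨hX', hX.norm⟩
  have hR1 : ¬ quoPre 𝐂(S) X ≤ 𝐂(S) := fun e =>
    hX.ne_bot (quoPre_eq_iff.1 (e.antisymm (le_quoPre X)))
  refine ⟨_, le_quoPre X, hR, (ab_quo_iff (quoPre_le_norm X)).1 (by rw [quo_quoPre]; exact hp.1),
    ?_, m, hb, hm⟩
  generalize quoPre 𝐂(S) X = R at hR hR1
  have hcl : ∀ s ∈ S, s ≠ 1 → 𝐂[s].relIndex R = 𝐂[t].relIndex R := fun s hs s1 => by
    obtain ⟨x, hx, rfl⟩ := tr s hs s1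
    rw [cent1_conj, ← relIndex_conj x 𝐂[t], conj_eq_of_mem_norm (hR.2 hx)]
  have hB : {y | ∃ x ∈ R, x * t * x⁻¹ = y} ⊆ (S : Set G) \ {1} := by
    rintro _ ⟨x, hx, rfl⟩
    exact ⟨conj_mem_of_norm (hR.le hx) ht, BSW.conj_ne_one t1⟩
  have n2 : ((S : Set G) \ {1}).ncard = ♯S - 1 := Set.ncard_sdiff_singleton_of_mem S.one_mem
  obtain ⟨c, hc⟩ : 𝐂[t].relIndex R ∣ ♯S - 1 := n2 ▸ dvd_ncard_conj (P := R)
    (fun x hx a ha => ⟨conj_mem_of_norm (hR.le hx) ha.1, BSW.conj_ne_one ha.2⟩)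
    fun a ha => (hcl a ha.1 ha.2).symm.dvd
  have hinv : ∀ x ∈ 𝐍(S) ⊓ 𝐂[t], ∀ a, a ≠ t → x * a * x⁻¹ ≠ t := fun x hx a ha e =>
    ha ((MulAut.conj x).injective (e.trans (mem_cent1_iff_conj.1 hx.2).symm))
  have c1 : c = 1 := by
    refine rank_arith (b := 𝐂[t].relIndex R) (m := m) ?_ ?_ (by omega) ?_ (fun e => ho ?_) fun e => ?_
    · rw [← ncard_cls, ← Set.ncard_sdiff_singleton_of_mem (a := t) (by exact ⟨1, one_mem R, by simp⟩)]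
      refine dvd_ncard_conj (P := 𝐍(S) ⊓ 𝐂[t]) ?_ fun a ha => (hm a (hB ha.1).1 fun e =>
        ha.2 (eq_of_mem_zpowers (sq t ht) e (hB ha.1).2)).symm.dvd
      rintro x hx _ ⟨⟨r, hr, rfl⟩, h2⟩
      refine ⟨⟨_, conj_mem_of_norm (hR.2 hx.1) hr, ?_⟩, hinv x hx _ h2⟩
      nth_rw 1 [← mem_cent1_iff_conj.1 hx.2]; group
    · rw [← hc, Nat.sub_sub, ← n1]
      exact dvd_ncard_conj (P := 𝐍(S) ⊓ 𝐂[t]) (fun x hx a ha => ⟨conj_mem_of_norm hx.1 ha.1,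
        fun e => hinv x hx a (fun e => ha.2 (e ▸ mem_zpowers t)) (eq_of_mem_zpowers (sq t ht) e
          (BSW.conj_ne_one fun e => ha.2 (e ▸ one_mem _)))⟩) fun a ha => (hm a ha.1 ha.2).symm.dvd
    · have := c2 ▸ card_dvd (zpowers_le.2 ht)
      omega
    · exact (e.trans (relIndex_dvd_of_le_left _ (cent_le_cent1 hz))).trans
        (relIndex_dvd_of_le_norm inf_le_left hC.2)
    · refine hR1 (le_cent_comm.1 fun s hs => ?_)
      by_cases s1 : s = 1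
      · rw [s1]; exact one_mem _
      · exact le_cent1_iff.1 (relIndex_eq_one.1 ((hcl s hs s1).trans e))
  have := Set.eq_of_subset_of_ncard_le hB (by rw [n2, hc, c1, mul_one, ncard_cls])
  exact fun s hs s1 => this.ge ⟨hs, s1⟩

end Cfsg.Agent.E8
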